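import Cfsg.Agent.Lib.PFK.BigSideC
import Mathlib

/-!
# The index bound of a big side

`P : Pair S T W₁ W₂ U V`, `S_F ≠ σ(S)`, `C : Cfg S W₁ q Q D`: the `|W₂| - 1` pairwise disjoint orbits of size
`d = |σ(S) : X|` in the nontrivial characters of `X / N₂`, of order `|W₂| ^ |W₁|`, give
`d (|W₂| - 1) ≤ |W₂| ^ |W₁| - 1`.
-/

set_option autoImplicit false
set_option linter.style.haveILetI false
set_option linter.unusedSectionVars false

namespace Cfsg.Agent.Lib.PF.BigIndex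

open Cfsg Subgroup
open Cfsg.Agent.Lib.PFK.Pair Cfsg.Agent.Lib.PFK.BigLocal Cfsg.Agent.Lib.OddOrder.Sec14P
open Cfsg.Agent.Lib.OddChar.DadeCount
open Cfsg.Agent.Lib.PFK.BigSide
open Cfsg.Agent.Lib.PF.MeanE

universe u

variable {G : Type u} [Group G] [Fintype G] {S T W₁ W₂ U V Q D : Subgroup G} {q : ℕ}

/-- A nontrivial character of `W₁ ⊔ W₂` trivial on `W₁` exists. -/
theorem exists_Ps (P : Pair S T W₁ W₂ U V) [Fintype (↥(W₁ ⊔ W₂) →* ℂˣ)] (h3 : 3 ≤ Nat.card W₂) :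
    ∃ ψ, ψ ∈ Ps W₁ W₂ := by
  have h := card_Ps P.sn
  have h1 : 0 < (Ps W₁ W₂).card := by omega
  exact Finset.card_pos.mp h1

/-- **The index bound.** -/
theorem index_bound (P : Pair S T W₁ W₂ U V) (hF : fittingHallOf S ≠ sigmaCore S) (C : Cfg S W₁ q Q D)
    [Fintype (↥(W₁ ⊔ W₂) →* ℂˣ)] {χ : (↥(W₁ ⊔ W₂) →* ℂˣ) → (G → ℂ)} (hχ : IsCyclicTIFamily W₁ W₂ χ) :
    (X C).relIndex (sigmaCore S) * (Nat.card W₂ - 1) ≤ Nat.card W₂ ^ Nat.card W₁ - 1 := by
  classical
  obtain ⟨A, _, _, π, hπ, hker⟩ := exists_quot C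
  letI : Fintype S := Fintype.ofFinite _
  letI : Fintype ↥(sigmaCore S) := Fintype.ofFinite _
  letI : Fintype W₁ := Fintype.ofFinite _
  letI : Fintype W₂ := Fintype.ofFinite _
  letI : Fintype ↥(X C) := Fintype.ofFinite _
  obtain ⟨ψ₀, hψ₀⟩ := exists_Ps P (f_ge P C)
  obtain ⟨δ₀, θ, O, hδ₀, h1, h2, h3, -⟩ :=
    exists_row (φ₀ := 1) P hF C hχ π hπ hker (fun _ _ => rfl) hψ₀
  -- the dual of `A`
  obtain ⟨hfin, hcardD, -⟩ := Cfsg.Agent.Lib.Glauberman.Act.dual_facts (fun a b : A => mul_comm a b)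
  letI : Fintype (A →* ℂˣ) := Fintype.ofFinite _
  -- the order of `A`
  have hcardA : Nat.card A = Nat.card W₂ ^ Nat.card W₁ := by
    letI : Fintype A := Fintype.ofFinite _
    have hXc : Nat.card ↥(X C) = Nat.card A * Nat.card ↥(N₂ C) := by
      rw [Nat.card_eq_fintype_card, ← Finset.card_univ, Nat.card_eq_fintype_card (α := A)]
      rw [Finset.card_eq_sum_card_fiberwise (f := π) (t := Finset.univ) (fun x _ => Finset.mem_univ _)]
      rw [Finset.sum_congr rfl (fun b _ => fiber_card C π hπ hker b)]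
      simp
    have hX := card_X C
    rw [hXc] at hX
    have hN : 0 < Nat.card ↥(N₂ C) := Nat.card_pos
    have h4 := Nat.eq_of_mul_eq_mul_right hN hX
    rw [h4, q_eq P C]
  -- count
  let L := {ψ // ψ ∈ Ps W₁ W₂}
  have hdisj : (↑(Finset.univ : Finset L) : Set L).PairwiseDisjoint O := by
    intro l _ l' _ hll
    exact h2 l l' hll
  have hsub : (Finset.univ : Finset L).biUnion O ⊆ (Finset.univ : Finset (A →* ℂˣ)).erase 1 := by
    intro t ht
    obtain ⟨l, -, hl⟩ := Finset.mem_biUnion.mp ht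
    refine Finset.mem_erase.mpr ⟨?_, Finset.mem_univ _⟩
    rintro rfl
    exact h1 l hl
  have hc := Finset.card_le_card hsub
  rw [Finset.card_biUnion hdisj, Finset.sum_congr rfl (fun l _ => h3 l)] at hc
  rw [Finset.card_erase_of_mem (Finset.mem_univ _), Finset.card_univ, ← Nat.card_eq_fintype_card, hcardD, hcardA] at hc
  simp only [Finset.sum_const, Finset.card_univ, smul_eq_mul] at hc
  have hL : Fintype.card L = Nat.card W₂ - 1 := by
    have := card_Ps P.sn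
    rw [Fintype.card_coe]
    omega
  rw [hL, mul_comm] at hc
  exact hc

end Cfsg.Agent.Lib.PF.BigIndex
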