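import Mathlib
import Cfsg.Agent.Lib.PF.SidePartner
import Cfsg.Agent.Lib.PFK.BigSideD
import Cfsg.Agent.S1502

/-!
# The master inequality for a big side and a type II side

`P : Pair S T W₁ W₂ U V`, `V ≠ ⊥` (`T` of type II), `S_F ≠ σ(S)` with `C : Cfg S W₁ q Q D`, `e = |W₁|`, `f = |W₂|`,
`d = |σ(S) : X C|`.  Then `2 ≤ κ_T + f (d + 1) / f ^ e`.

The regions are the support of `X C \ N₂ C` (orders divisible by `f`) and the conjugates of `F(T)#`.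
-/

set_option autoImplicit false
set_option linter.style.haveILetI false
set_option linter.unusedSectionVars false

namespace Cfsg.Agent.Lib.PF.BigMaster

open Cfsg Subgroup ComplexConjugate
open Cfsg.Agent.Lib.PFK.Pair Cfsg.Agent.Lib.PFK.SideField
open Cfsg.Agent.Lib.OddChar.DadeCount Cfsg.Agent.Lib.OddChar.CyclicTI
open Cfsg.Agent.Lib.PF.SideLocal Cfsg.Agent.Lib.PF.SideDisj Cfsg.Agent.Lib.PF.SideChar
open Cfsg.Agent.Lib.PF.SideMain (IsPh IsPs)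
open Cfsg.Agent.Lib.PF.SideII
open Cfsg.Agent.Lib.PF.SidePartner (Xt)
open Cfsg.Agent.Lib.PF.Master (Zs Zt mem_Zt_conj Zs_subset_Zt eq_of_agree)
open Cfsg.Agent.Lib.PF.MeanE Cfsg.Agent.Lib.PF.Ineq
open Cfsg.Agent.Lib.PFK.BigLocal (X N₂)
open Cfsg.Agent.Lib.PFK.BigSide (AX)
open Cfsg.Agent.Lib.OddOrder.Sec14P
open Cfsg.Agent.Lib.Char.Induced Cfsg.Agent.Lib.Char.Ortho Cfsg.Agent.Lib.Char.Basic Cfsg.Agent.Lib.Char.Complete

universe u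

variable {G : Type u} [Group G] [Fintype G] {S T W₁ W₂ U V Q D : Subgroup G} {q : ℕ}

open Classical in
/-- **T-diff** with the conjugates of `F(T)#`. -/
theorem T_diff' (P : Pair S T W₁ W₂ U V) (hV : V ≠ ⊥) (hq : (Nat.card W₁).Prime) (h3 : 2 < Nat.card W₂)
    (hodd : Odd (Nat.card ↥(W₁ ⊔ W₂))) {χ : (↥(W₁ ⊔ W₂) →* ℂˣ) → (G → ℂ)} (hχ : IsCyclicTIFamily W₁ W₂ χ)
    {φ φ' ψ : ↥(W₁ ⊔ W₂) →* ℂˣ} (hφ : φ ≠ 1 ∧ ∀ w : ↥(W₁ ⊔ W₂), (w : G) ∈ W₂ → φ w = 1)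
    (hφ' : φ' ≠ 1 ∧ ∀ w : ↥(W₁ ⊔ W₂), (w : G) ∈ W₂ → φ' w = 1)
    (hψ : ∀ w : ↥(W₁ ⊔ W₂), (w : G) ∈ W₁ → ψ w = 1) {g : G}
    (h1 : g ∉ Xt T) (h2 : g ∉ Zt W₁ W₂) : χ (φ * ψ) g = χ (φ' * ψ) g := by
  have hodd' : Odd (Nat.card ↥(W₂ ⊔ W₁)) := by
    rw [sup_comm]
    exact hodd
  have h1' : ∀ y : G, y * g * y⁻¹ ∈ fittingOf T → y * g * y⁻¹ = 1 := by
    intro y hy
    by_contra hne
    exact h1 ⟨y, hy, hne⟩
  have hs : ∀ {φ₁ : ↥(W₁ ⊔ W₂) →* ℂˣ}, (φ₁ ≠ 1 ∧ ∀ w : ↥(W₁ ⊔ W₂), (w : G) ∈ W₂ → φ₁ w = 1) →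
      IsPs (swapHom φ₁) := by
    rintro φ₁ ⟨h3, h4⟩
    refine ⟨fun h => h3 (by rw [← unswap_swap φ₁, h, unswap_one]), fun w hw => ?_⟩
    exact h4 ⟨w.1, sup_comm W₂ W₁ ▸ w.2⟩ hw
  have hh : IsPh (swapHom ψ) := fun w hw => hψ ⟨w.1, sup_comm W₂ W₁ ▸ w.2⟩ hw
  have h3' := S_diff P.symm hV hq h3 hodd' (swapFam_family hχ) hh (hs hφ) (hs hφ') h1' (by rwa [Zt_comm])
  have e1 : ∀ φ₁ : ↥(W₁ ⊔ W₂) →* ℂˣ, swapFam χ (swapHom ψ * swapHom φ₁) g = χ (φ₁ * ψ) g := by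
    intro φ₁
    show χ (unswap (swapHom ψ * swapHom φ₁)) g = _
    rw [unswap_mul, unswap_swap, unswap_swap]
  rwa [e1, e1] at h3'

/-- `Xt T` has orders prime to `f`. -/
theorem not_dvd_Xt (P : Pair S T W₁ W₂ U V) (hV : V ≠ ⊥) {g : G} (hg : g ∈ Xt T) {r : ℕ} (hr : r.Prime)
    (hr2 : r ∣ Nat.card W₂) : ¬ r ∣ orderOf g := by
  obtain ⟨y, h1, -⟩ := hg
  intro hd
  have h2 : y * g * y⁻¹ ∈ ⁅T, T⁆ := X_le_derived P.symm hV h1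
  have h3 : orderOf (y * g * y⁻¹) = orderOf g := by
    have := Cfsg.Agent.Lib.OddOrder.TypesSets.orderOf_conj' y g
    exact this
  have h4 : r ∣ Nat.card ↥⁅T, T⁆ := by
    refine hd.trans ?_
    rw [← h3]
    exact Subgroup.orderOf_dvd_natCard _ h2
  have h5 := cop_N P.symm hV
  exact hr.one_lt.ne' (Nat.eq_one_of_dvd_coprimes h5 h4 hr2)

open Classical in
/-- **Master inequality**, the big side `S`, type II side `T`. -/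
theorem main_big (P : Pair S T W₁ W₂ U V) (hV : V ≠ ⊥) (hF : fittingHallOf S ≠ sigmaCore S) (C : Cfg S W₁ q Q D) :
    (2 : ℝ) ≤ Cfsg.Agent.Lib.PFK.PartA.kap T W₂ W₁ V +
      (Nat.card W₂ : ℝ) * (((X C).relIndex (sigmaCore S) : ℕ) + 1) / (Nat.card W₂ : ℝ) ^ Nat.card W₁ := by
  classical
  haveI := finite_dual P.sn
  letI : Fintype (↥(W₁ ⊔ W₂) →* ℂˣ) := Fintype.ofFinite _
  haveI := finite_dual P.symm.sn
  letI : Fintype (↥(W₂ ⊔ W₁) →* ℂˣ) := Fintype.ofFinite _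
  letI : Fintype (fittingOf T) := Fintype.ofFinite _
  have hW := P.sn
  have hoddG : Odd (Nat.card G) := P.hG.1
  have hodd : Odd (Nat.card ↥(W₁ ⊔ W₂)) := Odd.of_dvd_nat hoddG (Subgroup.card_subgroup_dvd_card _)
  have hodd' : Odd (Nat.card ↥(W₂ ⊔ W₁)) := Odd.of_dvd_nat hoddG (Subgroup.card_subgroup_dvd_card _)
  have he : (Nat.card W₁).Prime := C.prime
  have he3 := Cfsg.Agent.Lib.PFK.BigSide.e_ge P C
  have hf3 := Cfsg.Agent.Lib.PFK.BigSide.f_ge P C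
  have hqeq : Nat.card W₂ = q := Cfsg.Agent.Lib.PFK.BigSide.q_eq P C
  obtain ⟨χ, hχ⟩ := Cfsg.Agent.S1502.result W₁ W₂ hW hodd
  set D₁ : Set G := dadeSupport (AX C) S (supportR S) with hD₁
  have h12 : ∀ g, g ∈ D₁ → g ∉ Xt T := by
    intro g hg hX
    have h1 := Cfsg.Agent.Lib.PFK.BigSide.q_dvd_support P hF C hg
    exact not_dvd_Xt P hV hX C.hqp (hqeq ▸ dvd_rfl) h1
  have h1Z : ∀ g, g ∈ D₁ → g ∉ Zt W₁ W₂ := fun g hg => Cfsg.Agent.Lib.PFK.BigSide.not_Zt P hF C hg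
  have h2Z : ∀ g, g ∈ Xt T → g ∉ Zt W₁ W₂ := by
    intro g hg
    rw [← Zt_comm]
    exact Cfsg.Agent.Lib.PF.SidePartner.Xt_not_Zt P.symm hV hg
  have hIsPs : ∀ ψ ∈ Ps W₁ W₂, IsPs ψ := fun ψ h => mem_Ps.mp h
  have hTd : ∀ g, g ∉ Xt T → g ∉ Zt W₁ W₂ → ∀ φ ∈ Ph W₁ W₂, ∀ φ' ∈ Ph W₁ W₂, ∀ ψ ∈ Ps W₁ W₂,
      χ (φ * ψ) g = χ (φ' * ψ) g := by
    intro g h1 h2 φ hφ φ' hφ' ψ hψ
    exact T_diff' P hV he (by omega) hodd hχ (mem_Ph.mp hφ) (mem_Ph.mp hφ') (mem_Ps.mp hψ).2 h1 h2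
  have hrest : ∀ g, g ∉ Zt W₁ W₂ → g ∉ D₁ → g ∉ Xt T →
      ∀ φ ∈ Ph W₁ W₂, ∀ ψ ∈ Ps W₁ W₂, ∀ φ' ∈ Ph W₁ W₂, ∀ ψ' ∈ Ps W₁ W₂, χ (φ * ψ) g = χ (φ' * ψ') g := by
    intro g hZ h1 h2 φ hφ ψ hψ φ' hφ' ψ' hψ'
    rw [Cfsg.Agent.Lib.PFK.BigSide.diff_big P hF C hχ (mem_Ph.mp hφ).2 hψ hψ' hZ h1]
    exact hTd g h2 hZ φ hφ φ' hφ' ψ' hψ'
  have hregions := sum_regions_le hW hodd hχ he3 hf3 D₁ (Xt T) h12 h1Z h2Z hrest
  -- the big side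
  have hbig := Cfsg.Agent.Lib.PFK.BigSide.cost_big P hF C hχ (fun g hg φ hφ φ' hφ' ψ hψ =>
    hTd g (h12 g hg) (h1Z g hg) φ hφ φ' hφ' ψ hψ)
  -- the type II side
  have hXt : ∀ x : ↥(fittingOf T), x ≠ 1 → (x : G) ∈ Xt T := by
    intro x hx
    refine ⟨1, ?_, ?_⟩
    · simp only [one_mul, inv_one, mul_one]
      exact x.2
    · simp only [one_mul, inv_one, mul_one]
      exact fun h => hx (Subtype.ext h)
  have hconst' : ∀ x : ↥(fittingOf T), x ≠ 1 → ∀ φ ∈ Ph W₂ W₁, ∀ φ' ∈ Ph W₂ W₁, ∀ ψ ∈ Ps W₂ W₁,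
      swapFam χ (φ * ψ) x = swapFam χ (φ' * ψ) x := by
    intro x hx φ hφ φ' hφ' ψ hψ
    rw [Ph_swap (W₁ := W₁) (W₂ := W₂), Finset.mem_image] at hφ hφ'
    rw [Ps_swap (W₁ := W₁) (W₂ := W₂), Finset.mem_image] at hψ
    obtain ⟨a, ha, rfl⟩ := hφ
    obtain ⟨a', ha', rfl⟩ := hφ'
    obtain ⟨b, hb, rfl⟩ := hψ
    have e1 : ∀ a₁ : ↥(W₁ ⊔ W₂) →* ℂˣ, swapFam χ (swapHom a₁ * swapHom b) x = χ (b * a₁) x := by
      intro a₁
      show χ (unswap (swapHom a₁ * swapHom b)) x = _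
      rw [unswap_mul, unswap_swap, unswap_swap]
    rw [e1, e1]
    have hxX := hXt x hx
    have hxD : (x : G) ∉ D₁ := fun h => h12 _ h hxX
    exact Cfsg.Agent.Lib.PFK.BigSide.diff_big P hF C hχ (mem_Ph.mp hb).2 ha ha' (h2Z _ hxX) hxD
  have hII := cost_S P.symm hV he hf3 he3 hodd' (swapFam_family hχ) hconst'
  simp only [fE_swap] at hII
  have hEcl : IsClassFunction G (Emean χ) := by
    intro g h
    have hc : ∀ ω, IsClassFunction G (χ ω) := by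
      intro ω g h
      rcases hχ.irr_or_neg ω with h1 | h1
      · exact isClassFunction_of_isIrrCharacter h1 g h
      · have := isClassFunction_of_isIrrCharacter h1 g h
        simpa using this
    unfold Emean
    congr 1
    exact Finset.sum_congr rfl fun i _ => hc _ g h
  have hdens := Cfsg.Agent.Lib.PF.SidePartner.density_X P.symm hV hEcl 1
  have hfe : ∀ g, Cfsg.Agent.Lib.PF.CompTB.fe 1 (Emean χ g) = fE χ g := by
    intro g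
    rw [Cfsg.Agent.Lib.PFK.BigSide.fE_eq]
    unfold Cfsg.Agent.Lib.PF.CompTB.fe
    rw [one_mul]
  simp only [hfe] at hdens
  rw [← hdens] at hII
  -- the arithmetic
  have hPhc : ((Ph W₁ W₂).card : ℝ) = (Nat.card W₁ : ℝ) - 1 := by
    rw [← card_Ph hW]
    push_cast
    ring
  have hPsc : ((Ps W₁ W₂).card : ℝ) = (Nat.card W₂ : ℝ) - 1 := by
    rw [← card_Ps hW]
    push_cast
    ring
  rw [hPhc, hPsc] at hregions
  have hG0 : (0 : ℝ) < Nat.card G := by exact_mod_cast Nat.card_pos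
  have hreg2 := mul_le_mul_of_nonneg_left hregions (inv_nonneg.mpr hG0.le)
  rw [← mul_assoc, inv_mul_cancel₀ hG0.ne', one_mul, mul_add] at hreg2
  have hle := (add_le_add hbig hII).trans hreg2
  set e : ℝ := (Nat.card W₁ : ℝ) with he'
  set f : ℝ := (Nat.card W₂ : ℝ) with hf'
  set kT := Cfsg.Agent.Lib.PFK.PartA.kap T W₂ W₁ V
  set d : ℝ := (((X C).relIndex (sigmaCore S) : ℕ) : ℝ)
  have he0 : (3 : ℝ) ≤ e := by rw [he']; exact_mod_cast he3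
  have hf0 : (3 : ℝ) ≤ f := by rw [hf']; exact_mod_cast hf3
  have hef : 0 < e * f := by positivity
  have hpow : 0 < f ^ Nat.card W₁ := by positivity
  have hkey : 2 * (f⁻¹ * e⁻¹) ≤ (kT + f * (d + 1) / f ^ Nat.card W₁) * (f⁻¹ * e⁻¹) := by
    have e1 : e⁻¹ * ((f - 1)⁻¹ - (d + 1) / f ^ Nat.card W₁) + (f⁻¹ * (e - 1)⁻¹ - kT / (e * f)) =
        f⁻¹ * (e - 1)⁻¹ + e⁻¹ * (f - 1)⁻¹ - (kT + f * (d + 1) / f ^ Nat.card W₁) * (f⁻¹ * e⁻¹) := by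
      have : e - 1 ≠ 0 := by linarith
      have : f - 1 ≠ 0 := by linarith
      field_simp
      ring
    rw [e1] at hle
    linarith
  exact le_of_mul_le_mul_right hkey (by positivity)

open Classical in
/-- **Master inequality**, the big side `T`, type II side `S`. -/
theorem main_big_T (P : Pair S T W₁ W₂ U V) (hU : U ≠ ⊥) (hF : fittingHallOf T ≠ sigmaCore T) (C : Cfg T W₂ q Q D) :
    (2 : ℝ) ≤ Cfsg.Agent.Lib.PFK.PartA.kap S W₁ W₂ U +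
      (Nat.card W₁ : ℝ) * (((X C).relIndex (sigmaCore T) : ℕ) + 1) / (Nat.card W₁ : ℝ) ^ Nat.card W₂ :=
  main_big P.symm hU hF C

/-- **Master inequality**, form for `Big34.dead_of_master`. -/
theorem big_master {G : Type u} [Group G] [Finite G] {S T W₁ W₂ U V Q D : Subgroup G} {q : ℕ}
    (P : Pair S T W₁ W₂ U V) (hV : V ≠ ⊥) (hF : fittingHallOf S ≠ sigmaCore S) (C : Cfg S W₁ q Q D) :
    (2 : ℝ) ≤ Cfsg.Agent.Lib.PFK.PartA.kap T W₂ W₁ V +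
      (Nat.card W₂ : ℝ) * (((X C).relIndex (sigmaCore S) : ℕ) + 1) / (Nat.card W₂ : ℝ) ^ Nat.card W₁ := by
  letI : Fintype G := Fintype.ofFinite G
  exact main_big P hV hF C

end Cfsg.Agent.Lib.PF.BigMaster
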