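import Cfsg.Agent.Lib.PF.NatK1T

/-!
# Further values of the explicit family of a natural side
-/

set_option autoImplicit false
set_option linter.unusedSectionVars false
set_option linter.style.haveILetI false
set_option linter.unusedVariables false

namespace Cfsg.Agent.Lib.PF.NatK1B

open Cfsg Subgroup
open Cfsg.Agent.Lib.PFK.Pair Cfsg.Agent.Lib.PFK.Natural Cfsg.Agent.Lib.PFK.NaturalLocal
open Cfsg.Agent.Lib.PF.NatK1
open scoped ComplexConjugate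

universe u

variable {G : Type u} [Group G] [Fintype G] {S T W₁ W₂ U V : Subgroup G} [Fintype S]
variable (P : Pair S T W₁ W₂ U V) (hs : Side S W₁ U W₂)
include P hs

/-- A nontrivial character trivial on `W₁` is nontrivial on `W₂`. -/
theorem nt_of {ψ : ↥(W₁ ⊔ W₂) →* ℂˣ} (hψ : ∀ w : ↥(W₁ ⊔ W₂), (w : G) ∈ W₁ → ψ w = 1) (hψ1 : ψ ≠ 1) : NT W₁ W₂ ψ := by
  have h := nt_mul P hs (φ₀ := 1) (ψ := ψ) (fun w _ => rfl) hψ hψ1
  have e : (1 : ↥(W₁ ⊔ W₂) →* ℂˣ) * ψ = ψ := MonoidHom.ext (fun w => by simp [MonoidHom.mul_apply])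
  rwa [e] at h

/-- The value of `nu ψ` at `x w`, `x ∈ W₁#`, `w ∈ W₂`, for `ψ` trivial on `W₁`. -/
theorem nu_mul {ψ : ↥(W₁ ⊔ W₂) →* ℂˣ} (hψ : ∀ w : ↥(W₁ ⊔ W₂), (w : G) ∈ W₁ → ψ w = 1)
    {x w : G} (hx : x ∈ W₁) (hx1 : x ≠ 1) (hw : w ∈ W₂) (hS : x * w ∈ S) (hwW : w ∈ W₁ ⊔ W₂) :
    nu P hs ψ ⟨x * w, hS⟩ = (ψ ⟨w, hwW⟩ : ℂ) := by
  have hxW : x ∈ W₁ ⊔ W₂ := Subgroup.mem_sup_left hx
  have hm : x * w ∈ W₁ ⊔ W₂ := (W₁ ⊔ W₂).mul_mem hxW hwW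
  have h2 : x * w ∉ W₂ := by
    intro h
    have h3 : x ∈ W₁ ⊓ W₂ := by
      refine ⟨hx, ?_⟩
      have := W₂.mul_mem h (W₂.inv_mem hw)
      simpa using this
    rw [P.sn.2.2.1, Subgroup.mem_bot] at h3
    exact hx1 h3
  rw [nu_W P hs ψ hm hS h2]
  have e : (⟨x * w, hm⟩ : ↥(W₁ ⊔ W₂)) = ⟨x, hxW⟩ * ⟨w, hwW⟩ := rfl
  rw [e, map_mul, hψ ⟨x, hxW⟩ hx, one_mul]

open Cfsg.Agent.Lib.Char.Induced in
/-- The sum of `nu ω` over `S_F` vanishes, `ω` nontrivial on `W₂`. -/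
theorem sum_nu_H {ω : ↥(W₁ ⊔ W₂) →* ℂˣ} (hω : NT W₁ W₂ ω) [Fintype ↥(HS S)] :
    ∑ p : ↥(HS S), nu P hs ω (p : ↥S) = 0 := by
  classical
  letI : Fintype ↥(YS S W₁) := Fintype.ofFinite _
  have hN := HS_normal P hs
  have hNT : HS S ≤ YS S W₁ := HS_le
  set L : ↥(HS S) →* ℂˣ := (Lam P hs ω).comp (Subgroup.inclusion hNT) with hL
  have hsum : ∑ p : ↥(HS S), (L p : ℂ) = 0 := by
    have hne : L ≠ 1 := by
      intro e
      obtain ⟨w, hw2, hw1⟩ := hω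
      have hwH : (w : G) ∈ fittingHallOf S := W₂_le_H P hs hw2
      let wS : ↥(HS S) := ⟨⟨w, H_le P hs hwH⟩, mem_HS.mpr hwH⟩
      have h10 : L wS = ω w := by
        rw [hL, MonoidHom.comp_apply, Lam_apply]
        congr 1
        exact rho_W P hs (w : G) w.2 _
      apply hw1
      rw [← h10, e]
      rfl
    -- a nontrivial homomorphism has zero sum
    obtain ⟨p₀, hp₀⟩ : ∃ p₀, L p₀ ≠ 1 := by
      by_contra hno
      push Not at hno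
      exact hne (MonoidHom.ext hno)
    have h1 : (L p₀ : ℂ) * ∑ p : ↥(HS S), (L p : ℂ) = ∑ p : ↥(HS S), (L p : ℂ) := by
      rw [Finset.mul_sum]
      refine Fintype.sum_equiv (Equiv.mulLeft p₀) _ _ ?_
      intro p
      simp [map_mul]
    have h2 : ((L p₀ : ℂ) - 1) * ∑ p : ↥(HS S), (L p : ℂ) = 0 := by linear_combination h1
    rcases mul_eq_zero.mp h2 with h | h
    · exfalso
      apply hp₀
      apply Units.ext
      simpa [sub_eq_zero] using h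
    · exact h
  unfold nu
  simp only [indFun_apply]
  rw [← Finset.mul_sum, Finset.sum_comm]
  have key : ∀ s : ↥S, ∑ p : ↥(HS S), extendByZero (YS S W₁) (fun y => (Lam P hs ω y : ℂ)) (s⁻¹ * (p : ↥S) * s) = 0 := by
    intro s
    rw [← hsum]
    refine Fintype.sum_equiv
      (Equiv.ofBijective (fun p : ↥(HS S) => (⟨s⁻¹ * (p : ↥S) * s, by
        have := hN.conj_mem p p.2 s⁻¹
        simpa using this⟩ : ↥(HS S))) ⟨?_, ?_⟩) _ _ ?_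
    · intro a b hab
      have h1 : s⁻¹ * (a : ↥S) * s = s⁻¹ * (b : ↥S) * s := congrArg Subtype.val hab
      exact Subtype.ext (by simpa using h1)
    · intro b
      refine ⟨⟨s * (b : ↥S) * s⁻¹, hN.conj_mem b b.2 s⟩, ?_⟩
      apply Subtype.ext
      show s⁻¹ * (s * (b : ↥S) * s⁻¹) * s = b
      group
    · intro p
      have hm : s⁻¹ * (p : ↥S) * s ∈ HS S := by
        have := hN.conj_mem p p.2 s⁻¹
        simpa using this
      rw [extendByZero_of_mem _ _ (hNT hm)]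
      rfl
  rw [Finset.sum_eq_zero (fun s _ => key s), mul_zero]

open Cfsg.Agent.Lib.Char.Induced in
/-- `nu` commutes with complex conjugation. -/
theorem nu_inv (ω : ↥(W₁ ⊔ W₂) →* ℂˣ) (x : ↥S) : nu P hs ω⁻¹ x = conj (nu P hs ω x) := by
  classical
  have hv : ∀ y : ↥(YS S W₁), (Lam P hs ω⁻¹ y : ℂ) = conj (Lam P hs ω y : ℂ) := by
    intro y
    have h1 : (Lam P hs ω⁻¹ y : ℂ) = ((Lam P hs ω y)⁻¹ : ℂˣ) := by
      rw [Lam_apply, Lam_apply, MonoidHom.inv_apply]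
    rw [h1]
    -- the values have finite order
    have hfin : (Lam P hs ω y) ^ Nat.card ↥(YS S W₁) = 1 := by
      rw [← map_pow, pow_card_eq_one', map_one]
    have hval : ((Lam P hs ω y : ℂˣ) : ℂ) ^ Nat.card ↥(YS S W₁) = 1 := by
      have := congrArg Units.val hfin
      simpa using this
    have hnorm : ‖((Lam P hs ω y : ℂˣ) : ℂ)‖ = 1 :=
      Complex.norm_eq_one_of_pow_eq_one hval Nat.card_pos.ne'
    rw [Units.val_inv_eq_inv_val, Complex.inv_def, Complex.normSq_eq_norm_sq, hnorm]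
    simp
  unfold nu
  simp only [indFun_apply]
  rw [map_mul, map_sum, map_inv₀, Complex.conj_natCast]
  congr 1
  refine Finset.sum_congr rfl fun s _ => ?_
  by_cases hm : s⁻¹ * x * s ∈ YS S W₁
  · rw [extendByZero_of_mem _ _ hm, extendByZero_of_mem _ _ hm, hv]
  · rw [extendByZero_of_not_mem _ _ hm, extendByZero_of_not_mem _ _ hm, map_zero]

/-- **(K1), general form**: any Dade set `A` of `S` containing `W \ (W₁ ∪ W₂)` off which the difference vanishes. -/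
theorem k1_of {χ : (↥(W₁ ⊔ W₂) →* ℂˣ) → (G → ℂ)} (hχ : IsCyclicTIFamily W₁ W₂ χ) {A : Set G} {R : G → Subgroup G}
    (hD : DadeHypothesis A S R) (hZA : ∀ w ∈ W₁ ⊔ W₂, w ∉ W₁ → w ∉ W₂ → w ∈ A)
    {φ₀ ψ ψ' : ↥(W₁ ⊔ W₂) →* ℂˣ}
    (hφ₀ : ∀ w : ↥(W₁ ⊔ W₂), (w : G) ∈ W₂ → φ₀ w = 1)
    (hψ : ∀ w : ↥(W₁ ⊔ W₂), (w : G) ∈ W₁ → ψ w = 1) (hψ' : ∀ w : ↥(W₁ ⊔ W₂), (w : G) ∈ W₁ → ψ' w = 1)
    (hψ1 : ψ ≠ 1) (hψ'1 : ψ' ≠ 1)
    (hdom : ∀ x : ↥S, (x : G) ∉ A → nu P hs (φ₀ * ψ) x - nu P hs (φ₀ * ψ') x = 0) :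
    dadeIsometry A S R (nu P hs (φ₀ * ψ) - nu P hs (φ₀ * ψ')) = χ (φ₀ * ψ) - χ (φ₀ * ψ') := by
  classical
  by_cases hψψ' : ψ = ψ'
  · subst hψψ'
    rw [Cfsg.Agent.Lib.PF.Nat1.dade_sub, sub_self, sub_self]
  obtain ⟨μ, δ, hμ⟩ := exists_family P hs
  have hWS : W₁ ⊔ W₂ ≤ S := sup_le (W₁_le P hs) ((W₂_le_H P hs).trans (H_le P hs))
  have h3 : 2 < Nat.card W₁ := by
    have h1 := hs.q_prime.two_le
    have h2 : Odd (Nat.card W₁) := Odd.of_dvd_nat P.hG.1 (Subgroup.card_subgroup_dvd_card _)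
    rcases h1.eq_or_lt with h | h
    · rw [← h] at h2
      exact absurd h2 (by decide)
    · exact h
  obtain ⟨e1, e2⟩ := nu_eq_mu P hs hμ (nt_mul P hs hφ₀ hψ hψ1)
  obtain ⟨e3, e4⟩ := nu_eq_mu P hs hμ (nt_mul P hs hφ₀ hψ' hψ'1)
  have hdom' : ∀ x : ↥S, (x : G) ∉ A →
      (δ (φ₀ * ψ) • μ (φ₀ * ψ) - δ (φ₀ * ψ') • μ (φ₀ * ψ')) x = 0 := by
    intro x hx
    rw [e1, e2, e3, e4]
    simpa using hdom x hx
  have h := Cfsg.Agent.Lib.PF.Nat1.lemma1 P.sn hχ hWS hD hZA hμ h3 hφ₀ hψ hψ' hψψ' hdom'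
  rw [e1, e2, e3, e4] at h
  simpa using h

end Cfsg.Agent.Lib.PF.NatK1B
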