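import Cfsg.Agent.Lib.PFK.NaturalLocal
import Cfsg.Agent.Lib.LocalStruct.Comm
import Mathlib.Tactic

/-!
# Local group theory of a natural side around `Y = S_F W₁`

For `P : Pair S T W₁ W₂ U V`, `hs : Side S W₁ U W₂`, with `H = S_F`, `Y = H ⊔ W₁`:

* `frob`: `y ∈ Y \ H`, `c ∈ S`, `c y c⁻¹ ∈ Y` imply `c ∈ Y`;
* `conj_coset`: `h ∈ H`, `w ∈ W₁#`: `h w` is `H`-conjugate to `x w` with `x ∈ W₂`;
* `exists_retract`: a retraction of `Y` onto `W₁ ⊔ W₂`;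
* `stab`: conjugation by `c ∉ Y` moves every character of `H` nontrivial on `W₂`, modulo the kernel.
-/

set_option autoImplicit false
set_option linter.unusedSectionVars false
set_option linter.style.haveILetI false

namespace Cfsg.Agent.Lib.PF.NatY

open Cfsg Subgroup
open Cfsg.Agent.Lib.PFK.Pair Cfsg.Agent.Lib.PFK.Natural Cfsg.Agent.Lib.PFK.NaturalLocal
open Cfsg.Agent.Lib.LocalStruct.Comm

universe u

variable {G : Type u} [Group G] [Finite G]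

theorem comm_of_cyclic {W : Subgroup G} (h : IsCyclic W) : ∀ a ∈ W, ∀ b ∈ W, a * b = b * a := by
  intro a ha b hb
  letI := IsCyclic.commGroup (α := W)
  exact congrArg Subtype.val (mul_comm (⟨a, ha⟩ : W) ⟨b, hb⟩)

/-- A retraction onto a complement of a normal subgroup. -/
theorem exists_retract {Y R W : Subgroup G} (hRY : R ≤ Y) (hWY : W ≤ Y)
    (hn : ∀ y ∈ Y, ∀ r ∈ R, y * r * y⁻¹ ∈ R) (hinf : R ⊓ W = ⊥)
    (hsup : ∀ y ∈ Y, ∃ w ∈ W, ∃ r ∈ R, y = w * r) :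
    ∃ ρ : ↥Y →* ↥W, (∀ w : W, ρ ⟨w, hWY w.2⟩ = w) ∧ (∀ r (hr : r ∈ R), ρ ⟨r, hRY hr⟩ = 1) := by
  classical
  have huniq : ∀ {w w' r r' : G}, w ∈ W → w' ∈ W → r ∈ R → r' ∈ R → w * r = w' * r' → w = w' := by
    intro w w' r r' hw hw' hr hr' e
    have h1 : w'⁻¹ * w = r' * r⁻¹ := by
      calc w'⁻¹ * w = w'⁻¹ * (w * r) * r⁻¹ := by group
        _ = w'⁻¹ * (w' * r') * r⁻¹ := by rw [e]
        _ = r' * r⁻¹ := by group
    have h2 : w'⁻¹ * w ∈ R ⊓ W := by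
      refine ⟨?_, W.mul_mem (W.inv_mem hw') hw⟩
      rw [h1]
      exact R.mul_mem hr' (R.inv_mem hr)
    rw [hinf, Subgroup.mem_bot, inv_mul_eq_one] at h2
    exact h2.symm
  choose f hfW r hr hfr using fun y : Y => hsup y y.2
  have hf : ∀ (y : Y) (w : G) (hw : w ∈ W) (s : G), s ∈ R → (y : G) = w * s → f y = w := by
    intro y w hw s hs e
    exact huniq (hfW y) hw (hr y) hs ((hfr y).symm.trans e)
  let ρ : ↥Y →* ↥W := MonoidHom.mk' (fun y => ⟨f y, hfW y⟩) (by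
    intro a b
    apply Subtype.ext
    show f (a * b) = f a * f b
    refine hf (a * b) (f a * f b) (W.mul_mem (hfW a) (hfW b)) ((f b)⁻¹ * r a * f b * r b) ?_ ?_
    · refine R.mul_mem ?_ (hr b)
      have := hn (f b)⁻¹ (Y.inv_mem (hWY (hfW b))) (r a) (hr a)
      simpa using this
    · show (a : G) * (b : G) = _
      rw [hfr a]
      nth_rewrite 1 [hfr b]
      group)
  refine ⟨ρ, fun w => ?_, fun s hs => ?_⟩
  · apply Subtype.ext
    show f _ = _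
    exact hf _ _ w.2 1 R.one_mem (by simp)
  · apply Subtype.ext
    show f _ = 1
    exact hf _ _ W.one_mem s hs (by simp)

section Theta

variable {H : Subgroup G} (hcomm : ∀ a ∈ H, ∀ b ∈ H, a * b = b * a) {w : G} (hw : ∀ x ∈ H, w * x * w⁻¹ ∈ H)

/-- `c ↦ c (w c⁻¹ w⁻¹)` on the abelian group `H`. -/
def theta : ↥H →* ↥H where
  toFun c := ⟨(c : G) * (w * (c : G)⁻¹ * w⁻¹), H.mul_mem c.2 (hw _ (H.inv_mem c.2))⟩
  map_one' := by
    ext
    simp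
  map_mul' := by
    intro a b
    ext
    have h1 := hcomm (w * (a : G)⁻¹ * w⁻¹) (hw _ (H.inv_mem a.2)) b b.2
    simp only [Subgroup.coe_mul, mul_inv_rev]
    calc (a : G) * b * (w * ((b : G)⁻¹ * (a : G)⁻¹) * w⁻¹)
        = (a : G) * b * ((w * (b : G)⁻¹ * w⁻¹) * (w * (a : G)⁻¹ * w⁻¹)) := by group
      _ = (a : G) * (b * ((w * (b : G)⁻¹ * w⁻¹) * (w * (a : G)⁻¹ * w⁻¹))) := by group
      _ = (a : G) * (b * ((w * (a : G)⁻¹ * w⁻¹) * (w * (b : G)⁻¹ * w⁻¹))) := by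
        rw [hcomm (w * (b : G)⁻¹ * w⁻¹) (hw _ (H.inv_mem b.2)) _ (hw _ (H.inv_mem a.2))]
      _ = (a : G) * ((b * (w * (a : G)⁻¹ * w⁻¹)) * (w * (b : G)⁻¹ * w⁻¹)) := by group
      _ = (a : G) * (((w * (a : G)⁻¹ * w⁻¹) * b) * (w * (b : G)⁻¹ * w⁻¹)) := by rw [h1.symm]
      _ = (a : G) * (w * (a : G)⁻¹ * w⁻¹) * (b * (w * (b : G)⁻¹ * w⁻¹)) := by group

theorem theta_coe (c : H) : ((theta hcomm hw c : H) : G) = (c : G) * (w * (c : G)⁻¹ * w⁻¹) := rfl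

/-- Telescoping. -/
theorem telescope {c x : G} (hcx : c * (w * c⁻¹ * w⁻¹) = x) (hxw : w * x = x * w) (n : ℕ) :
    x ^ n = c * (w ^ n * c⁻¹ * (w ^ n)⁻¹) := by
  induction n with
  | zero => simp
  | succ n ih =>
    have hc : w ^ n * x = x * w ^ n := ((Commute.refl w).pow_left n |>.symm |> fun _ =>
      (show Commute w x from hxw).pow_left n)
    have h1 : x = w ^ n * x * (w ^ n)⁻¹ := by rw [hc]; group
    rw [pow_succ, ih]
    nth_rewrite 1 [h1]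
    rw [← hcx, pow_succ]
    group

theorem eq_one_of_theta {X : Subgroup G} {n : ℕ} (hn : w ^ n = 1) (hcop : (Nat.card X).Coprime n)
    (hX : ∀ x ∈ X, w * x = x * w) {c x : G} (hx : x ∈ X) (hcx : c * (w * c⁻¹ * w⁻¹) = x) : x = 1 := by
  have h1 := telescope hcx (hX x hx) n
  rw [hn] at h1
  simp only [one_mul, inv_one, mul_one, mul_inv_cancel] at h1
  have h2 : x ^ Nat.card X = 1 := by
    have := pow_card_eq_one' (x := (⟨x, hx⟩ : X))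
    exact congrArg Subtype.val this
  have h3 : orderOf x ∣ Nat.gcd (Nat.card X) n :=
    Nat.dvd_gcd (orderOf_dvd_of_pow_eq_one h2) (orderOf_dvd_of_pow_eq_one h1)
  rw [hcop] at h3
  exact orderOf_eq_one_iff.mp (Nat.dvd_one.mp h3)

include hcomm hw in
/-- Every element of `H` is `θ c * x`, with `x` fixed by `w`. -/
theorem exists_theta_mul {X : Subgroup G} (hXH : X ≤ H) (hX : ∀ c ∈ H, w * c = c * w ↔ c ∈ X) {n : ℕ}
    (hn : w ^ n = 1) (hcop : (Nat.card X).Coprime n) (h : G) (hh : h ∈ H) :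
    ∃ c ∈ H, ∃ x ∈ X, h = c * (w * c⁻¹ * w⁻¹) * x := by
  classical
  set θ := theta hcomm hw with hθ
  have hker : ∀ c : H, c ∈ θ.ker ↔ (c : G) ∈ X := by
    intro c
    rw [MonoidHom.mem_ker, ← hX c c.2]
    constructor
    · intro e
      have e1 : (c : G) * (w * (c : G)⁻¹ * w⁻¹) = 1 := congrArg Subtype.val e
      have e2 : w * (c : G)⁻¹ * w⁻¹ = (c : G)⁻¹ := by
        have := mul_left_cancel (a := (c : G)) (b := w * (c : G)⁻¹ * w⁻¹) (c := (c : G)⁻¹) (by rw [e1]; group)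
        exact this
      have e3 : w * (c : G)⁻¹ = (c : G)⁻¹ * w := by
        rw [mul_inv_eq_iff_eq_mul] at e2
        exact e2
      have e4 : (c : G) * w = w * (c : G) := by
        calc (c : G) * w = (c : G) * (w * (c : G)⁻¹) * c := by group
          _ = (c : G) * ((c : G)⁻¹ * w) * c := by rw [e3]
          _ = w * (c : G) := by group
      exact e4.symm
    · intro e
      apply Subtype.ext
      show (c : G) * (w * (c : G)⁻¹ * w⁻¹) = 1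
      have e3 : w * (c : G)⁻¹ * w⁻¹ = (c : G)⁻¹ := by
        have e4 : w * (c : G)⁻¹ = (c : G)⁻¹ * w := by
          have : (c : G)⁻¹ * (w * (c : G)) * (c : G)⁻¹ = (c : G)⁻¹ * ((c : G) * w) * (c : G)⁻¹ := by rw [e]
          calc w * (c : G)⁻¹ = (c : G)⁻¹ * ((c : G) * w) * (c : G)⁻¹ := by group
            _ = (c : G)⁻¹ * (w * (c : G)) * (c : G)⁻¹ := by rw [this]
            _ = (c : G)⁻¹ * w := by group
        rw [e4]; group
      rw [e3]; group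
  have hdisj : Disjoint θ.range θ.ker := by
    rw [Subgroup.disjoint_def]
    rintro x ⟨c, rfl⟩ hk
    have hk' := (hker _).mp hk
    have h1 := eq_one_of_theta hn hcop (fun x hx => (hX x (hXH hx)).mpr hx) hk'
      (c := (c : G)) (x := ((θ c : H) : G)) rfl
    exact Subtype.ext h1
  have hcard : Nat.card θ.range * Nat.card θ.ker = Nat.card H := by
    rw [← Subgroup.index_ker, mul_comm, Subgroup.card_mul_index]
  have hc := Subgroup.isComplement'_of_card_mul_and_disjoint hcard hdisj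
  obtain ⟨⟨⟨a, ⟨c, rfl⟩⟩, ⟨b, hb⟩⟩, e⟩ := hc.2 (⟨h, hh⟩ : H)
  refine ⟨c, c.2, b, (hker b).mp hb, ?_⟩
  have e' : ((θ c : H) : G) * (b : G) = h := congrArg Subtype.val e
  rw [← e']
  rfl

end Theta

section Side

variable {S T W₁ W₂ U V : Subgroup G} (P : Pair S T W₁ W₂ U V) (hs : Side S W₁ U W₂)
include P hs

theorem W₁_comm : ∀ a ∈ W₁, ∀ b ∈ W₁, a * b = b * a := comm_of_cyclic P.decS.cyclic

theorem conj_H_W₁ {w x : G} (hw : w ∈ W₁) (hx : x ∈ fittingHallOf S) : w * x * w⁻¹ ∈ fittingHallOf S :=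
  conj_mem_H P hs (W₁_le P hs hw) hx

omit [Finite G] in
theorem W₁_le_norm_of (h : ∀ w ∈ W₁, ∀ x ∈ fittingHallOf S, w * x * w⁻¹ ∈ fittingHallOf S) [Finite G] :
    W₁ ≤ normalizer (fittingHallOf S : Set G) := by
  intro w hw
  exact Cfsg.Agent.Lib.LocalStruct.Comm.mem_normalizer_of_conj_mem (fun x hx => h w hw x hx)

theorem W₁_le_norm : W₁ ≤ normalizer (fittingHallOf S : Set G) :=
  (W₁_le P hs).trans (S_le_norm P hs)

theorem fix_iff {w : G} (hw : w ∈ W₁) (hw1 : w ≠ 1) (c : G) (hc : c ∈ fittingHallOf S) :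
    w * c = c * w ↔ c ∈ W₂ := by
  have hP := typeP P hs
  constructor
  · intro e
    rw [← hP.W₂_centralizer w hw hw1]
    refine ⟨H_le_derived P hs hc, Subgroup.mem_centralizer_singleton_iff.mpr e.symm⟩
  · intro e
    exact W_comm P hs hw e

theorem pow_W₁ {w : G} (hw : w ∈ W₁) : w ^ Nat.card W₁ = 1 := by
  have := pow_card_eq_one' (x := (⟨w, hw⟩ : W₁))
  exact congrArg Subtype.val this

/-- Cosets `h w` are `H`-conjugate into `W`. -/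
theorem conj_coset {h w : G} (hh : h ∈ fittingHallOf S) (hw : w ∈ W₁) (hw1 : w ≠ 1) :
    ∃ c ∈ fittingHallOf S, ∃ x ∈ W₂, h * w = c * (x * w) * c⁻¹ := by
  have hcomm := H_comm P hs
  have hww := fun x hx => conj_H_W₁ P hs (x := x) hw hx
  obtain ⟨c, hc, x, hx, e⟩ := exists_theta_mul hcomm hww (W₂_le_H P hs) (fix_iff P hs hw hw1)
    (pow_W₁ P hs hw) P.cop.symm h hh
  refine ⟨c, hc, x, hx, ?_⟩
  have h1 := hcomm _ (hww _ (Subgroup.inv_mem _ hc)) x (W₂_le_H P hs hx)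
  rw [e]
  calc c * (w * c⁻¹ * w⁻¹) * x * w = c * ((w * c⁻¹ * w⁻¹) * x) * w := by group
    _ = c * (x * (w * c⁻¹ * w⁻¹)) * w := by rw [h1]
    _ = c * (x * w) * c⁻¹ := by group

/-- `S'` contains `H` and intersects `W₁` trivially. -/
theorem H_inf_W₁ : fittingHallOf S ⊓ W₁ = ⊥ := by
  rw [eq_bot_iff]
  intro x hx
  have h1 : x ∈ ⁅S, S⁆ ⊓ W₁ := ⟨H_le_derived P hs hx.1, hx.2⟩
  rwa [(typeP P hs).W₁_compl.2.2.1] at h1

theorem W_le_Y : W₁ ⊔ W₂ ≤ fittingHallOf S ⊔ W₁ :=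
  sup_le le_sup_right ((W₂_le_H P hs).trans le_sup_left)

theorem Y_le : fittingHallOf S ⊔ W₁ ≤ S := sup_le (H_le P hs) (W₁_le P hs)

theorem H_le_Y : fittingHallOf S ≤ fittingHallOf S ⊔ W₁ := le_sup_left

/-- The Frobenius property of `Y` modulo `H`. -/
theorem frob {y c : G} (hy : y ∈ fittingHallOf S ⊔ W₁) (hyH : y ∉ fittingHallOf S) (hc : c ∈ S)
    (h : c * y * c⁻¹ ∈ fittingHallOf S ⊔ W₁) : c ∈ fittingHallOf S ⊔ W₁ := by
  classical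
  have hP := typeP P hs
  obtain ⟨h₀, hh₀, w₀, hw₀, rfl⟩ := mem_sup_of_le_normalizer (W₁_le_norm P hs) hy
  have hw₀1 : w₀ ≠ 1 := by
    rintro rfl
    exact hyH (by simpa using hh₀)
  obtain ⟨h₁, hh₁, u, hu, x, hx, rfl⟩ := factor P hs hc
  set Y := fittingHallOf S ⊔ W₁ with hY
  have hHY : fittingHallOf S ≤ Y := le_sup_left
  have hWY : W₁ ≤ Y := le_sup_right
  have hxw : x * w₀ * x⁻¹ = w₀ := by rw [W₁_comm P hs x hx w₀ hw₀]; group
  have hux : u * (x * h₀ * x⁻¹) * u⁻¹ ∈ fittingHallOf S :=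
    conj_mem_H P hs (U_le P hs hu) (conj_H_W₁ P hs hx hh₀)
  -- `u w₀ u⁻¹ ∈ Y`
  have h1 : u * w₀ * u⁻¹ ∈ Y := by
    have e : u * w₀ * u⁻¹ = (u * (x * h₀ * x⁻¹) * u⁻¹)⁻¹ * (h₁⁻¹ * ((h₁ * u * x) * (h₀ * w₀) * (h₁ * u * x)⁻¹) * h₁) := by
      have e2 : (h₁ * u * x) * (h₀ * w₀) * (h₁ * u * x)⁻¹ =
          h₁ * (u * (x * h₀ * x⁻¹) * u⁻¹) * (u * (x * w₀ * x⁻¹) * u⁻¹) * h₁⁻¹ := by group
      rw [e2, hxw]
      group
    rw [e]
    refine Y.mul_mem (Y.inv_mem (hHY hux)) (Y.mul_mem (Y.mul_mem (Y.inv_mem (hHY hh₁)) h) (hHY hh₁))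
  obtain ⟨h₃, hh₃, w₃, hw₃, e3⟩ := mem_sup_of_le_normalizer (W₁_le_norm P hs) h1
  -- the commutator
  have hzU : u * (w₀ * u⁻¹ * w₀⁻¹) ∈ U := U.mul_mem hu
    ((Subgroup.mem_normalizer_iff.mp (hP.U_normal hw₀) u⁻¹).mp (U.inv_mem hu))
  have e4 : u * (w₀ * u⁻¹ * w₀⁻¹) = h₃ * (w₃ * w₀⁻¹) := by
    calc u * (w₀ * u⁻¹ * w₀⁻¹) = (u * w₀ * u⁻¹) * w₀⁻¹ := by group
      _ = h₃ * w₃ * w₀⁻¹ := by rw [e3]
      _ = h₃ * (w₃ * w₀⁻¹) := by group
  have h5 : w₃ * w₀⁻¹ ∈ ⁅S, S⁆ ⊓ W₁ := by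
    refine ⟨?_, W₁.mul_mem hw₃ (W₁.inv_mem hw₀)⟩
    have e5 : w₃ * w₀⁻¹ = h₃⁻¹ * (u * (w₀ * u⁻¹ * w₀⁻¹)) := by rw [e4]; group
    rw [e5]
    exact Subgroup.mul_mem _ (Subgroup.inv_mem _ (H_le_derived P hs hh₃)) (U_le_derived P hs hzU)
  rw [hP.W₁_compl.2.2.1, Subgroup.mem_bot] at h5
  rw [h5, mul_one] at e4
  have h6 : u * (w₀ * u⁻¹ * w₀⁻¹) ∈ fittingHallOf S ⊓ U := ⟨e4 ▸ hh₃, hzU⟩
  rw [H_disj_U P hs, Subgroup.mem_bot] at h6
  have h7 : u * w₀ = w₀ * u := by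
    have : u * w₀ * u⁻¹ * w₀⁻¹ = 1 := by
      rw [← h6]; group
    rw [mul_inv_eq_one, mul_inv_eq_iff_eq_mul] at this
    exact this
  have h8 : u ∈ ⁅S, S⁆ ⊓ Subgroup.centralizer ({w₀} : Set G) :=
    ⟨U_le_derived P hs hu, Subgroup.mem_centralizer_singleton_iff.mpr h7⟩
  rw [hP.W₂_centralizer w₀ hw₀ hw₀1] at h8
  have h9 : u ∈ fittingHallOf S ⊓ U := ⟨W₂_le_H P hs h8, hu⟩
  rw [H_disj_U P hs, Subgroup.mem_bot] at h9
  subst h9
  rw [mul_one]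
  exact Y.mul_mem (hHY hh₁) (hWY hx)

/-- A character of `H` invariant under a nontrivial element of `U` is trivial. -/
theorem stab_U (f : ↥(fittingHallOf S) →* ℂˣ) {u : G} (hu : u ∈ U) (hu1 : u ≠ 1)
    (hf : ∀ h : ↥(fittingHallOf S), f ⟨u * h * u⁻¹, conj_mem_H P hs (U_le P hs hu) h.2⟩ = f h) : f = 1 := by
  classical
  have hcomm := H_comm P hs
  let g : ↥(fittingHallOf S) → ↥(fittingHallOf S) := fun c =>
    ⟨(u * c * u⁻¹) * (c : G)⁻¹, Subgroup.mul_mem _ (conj_mem_H P hs (U_le P hs hu) c.2) (Subgroup.inv_mem _ c.2)⟩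
  have hg : Function.Injective g := by
    intro a b hab
    have h1 : (u * a * u⁻¹) * (a : G)⁻¹ = (u * b * u⁻¹) * (b : G)⁻¹ := congrArg Subtype.val hab
    have hmem : (b : G)⁻¹ * a ∈ fittingHallOf S := Subgroup.mul_mem _ (Subgroup.inv_mem _ b.2) a.2
    have hb := conj_mem_H P hs (U_le P hs hu) b.2
    have ha := conj_mem_H P hs (U_le P hs hu) a.2
    have h2 : u * ((b : G)⁻¹ * a) = ((b : G)⁻¹ * a) * u := by
      have h3 : u * a * u⁻¹ = (u * b * u⁻¹) * ((b : G)⁻¹ * a) := by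
        calc u * a * u⁻¹ = (u * a * u⁻¹) * (a : G)⁻¹ * a := by group
          _ = (u * b * u⁻¹) * (b : G)⁻¹ * a := by rw [h1]
          _ = _ := by group
      have h4 : u * ((b : G)⁻¹ * a) * u⁻¹ = (u * b * u⁻¹)⁻¹ * (u * a * u⁻¹) := by group
      have h5 : u * ((b : G)⁻¹ * a) * u⁻¹ = (b : G)⁻¹ * a := by
        rw [h4, h3]; group
      rw [mul_inv_eq_iff_eq_mul] at h5
      exact h5
    have h6 := hs.free u hu hu1 _ hmem h2
    have h7 : (a : G) = b := by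
      rw [inv_mul_eq_one] at h6
      exact h6.symm
    exact Subtype.ext h7
  have hgs : Function.Surjective g := Finite.injective_iff_surjective.mp hg
  ext x
  obtain ⟨c, rfl⟩ := hgs x
  have h1 : g c = (⟨u * c * u⁻¹, conj_mem_H P hs (U_le P hs hu) c.2⟩ : ↥(fittingHallOf S)) * c⁻¹ := rfl
  rw [h1, map_mul, map_inv, hf]
  simp

/-- **The retraction of `Y` onto `W`.** -/
theorem exists_rho : ∃ ρ : ↥(fittingHallOf S ⊔ W₁) →* ↥(W₁ ⊔ W₂),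
    ∀ w : ↥(W₁ ⊔ W₂), ρ ⟨w, W_le_Y P hs w.2⟩ = w := by
  classical
  obtain ⟨w₀, hw₀, hw₀1⟩ : ∃ w ∈ W₁, w ≠ 1 := by
    by_contra hno
    push Not at hno
    exact P.W₁_ne ((Subgroup.eq_bot_iff_forall _).mpr hno)
  have hcomm := H_comm P hs
  have hww := fun x hx => conj_H_W₁ P hs (x := x) hw₀ hx
  set θ := theta hcomm hww with hθ
  set R : Subgroup G := θ.range.map (fittingHallOf S).subtype with hR
  have hmemR : ∀ c : G, c ∈ fittingHallOf S → c * (w₀ * c⁻¹ * w₀⁻¹) ∈ R := by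
    intro c hc
    exact ⟨θ ⟨c, hc⟩, ⟨⟨c, hc⟩, rfl⟩, rfl⟩
  have hRmem : ∀ r ∈ R, ∃ c ∈ fittingHallOf S, r = c * (w₀ * c⁻¹ * w₀⁻¹) := by
    rintro r ⟨_, ⟨c, rfl⟩, rfl⟩
    exact ⟨c, c.2, rfl⟩
  have hRH : R ≤ fittingHallOf S := by
    rintro r ⟨a, _, rfl⟩
    exact a.2
  have hn : ∀ y ∈ fittingHallOf S ⊔ W₁, ∀ r ∈ R, y * r * y⁻¹ ∈ R := by
    intro y hy r hr
    obtain ⟨h, hh, w, hw, rfl⟩ := mem_sup_of_le_normalizer (W₁_le_norm P hs) hy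
    obtain ⟨c, hc, rfl⟩ := hRmem r hr
    set r := c * (w₀ * c⁻¹ * w₀⁻¹) with hr'
    have h1 : w * r * w⁻¹ = (w * c * w⁻¹) * (w₀ * (w * c * w⁻¹)⁻¹ * w₀⁻¹) := by
      have e1 : w⁻¹ * w₀ * w = w₀ := by
        rw [mul_assoc, W₁_comm P hs w₀ hw₀ w hw]; group
      have e2 : w⁻¹ * w₀⁻¹ * w = w₀⁻¹ := by
        rw [mul_assoc, W₁_comm P hs w₀⁻¹ (W₁.inv_mem hw₀) w hw]; group
      calc w * r * w⁻¹ = w * c * w₀ * c⁻¹ * w₀⁻¹ * w⁻¹ := by rw [hr']; group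
        _ = w * c * (w⁻¹ * w₀ * w) * c⁻¹ * (w⁻¹ * w₀⁻¹ * w) * w⁻¹ := by rw [e1, e2]
        _ = _ := by group
    have h2 : w * r * w⁻¹ ∈ R := by
      rw [h1]
      exact hmemR _ (conj_H_W₁ P hs hw hc)
    have h3 : (h * w) * r * (h * w)⁻¹ = w * r * w⁻¹ := by
      have e3 : h * (w * r * w⁻¹) * h⁻¹ = w * r * w⁻¹ := by
        rw [hcomm h hh _ (hRH h2)]; group
      calc (h * w) * r * (h * w)⁻¹ = h * (w * r * w⁻¹) * h⁻¹ := by group
        _ = _ := e3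
    rw [h3]
    exact h2
  have hinf : R ⊓ (W₁ ⊔ W₂) = ⊥ := by
    rw [eq_bot_iff]
    rintro e ⟨he, he'⟩
    obtain ⟨a, ha, b, hb, rfl⟩ := Cfsg.Agent.Lib.LocalStruct.Comm.mem_sup_of_le_normalizer
      (A := W₂) (B := W₁) (fun x hx => by
        refine Cfsg.Agent.Lib.LocalStruct.Comm.mem_normalizer_of_conj_mem (fun t ht => ?_)
        rw [W_comm P hs hx ht]
        simpa using ht) (by rwa [sup_comm])
    have h1 : b ∈ fittingHallOf S ⊓ W₁ := by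
      refine ⟨?_, hb⟩
      have := (fittingHallOf S).mul_mem ((fittingHallOf S).inv_mem (W₂_le_H P hs ha)) (hRH he)
      simpa using this
    rw [H_inf_W₁ P hs, Subgroup.mem_bot] at h1
    subst h1
    rw [mul_one] at he ⊢
    obtain ⟨c, hc, e⟩ := hRmem a he
    exact eq_one_of_theta (pow_W₁ P hs hw₀) P.cop.symm (fun x hx => W_comm P hs hw₀ hx) ha e.symm
  have hsup : ∀ y ∈ fittingHallOf S ⊔ W₁, ∃ w ∈ W₁ ⊔ W₂, ∃ r ∈ R, y = w * r := by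
    intro y hy
    obtain ⟨h, hh, w, hw, rfl⟩ := mem_sup_of_le_normalizer (W₁_le_norm P hs) hy
    obtain ⟨c, hc, x, hx, e⟩ := exists_theta_mul hcomm hww (W₂_le_H P hs) (fix_iff P hs hw₀ hw₀1)
      (pow_W₁ P hs hw₀) P.cop.symm h hh
    have hxw : x * w ∈ W₁ ⊔ W₂ := (W₁ ⊔ W₂).mul_mem (Subgroup.mem_sup_right hx) (Subgroup.mem_sup_left hw)
    refine ⟨x * w, hxw, (x * w)⁻¹ * (c * (w₀ * c⁻¹ * w₀⁻¹)) * (x * w), ?_, ?_⟩
    · have := hn (x * w)⁻¹ (Subgroup.inv_mem _ (W_le_Y P hs hxw)) _ (hmemR c hc)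
      simpa using this
    · rw [e]
      group
  obtain ⟨ρ, h1, -⟩ := exists_retract (hRH.trans le_sup_left) (W_le_Y P hs) hn hinf hsup
  exact ⟨ρ, h1⟩

end Side

end Cfsg.Agent.Lib.PF.NatY
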