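import Cfsg.Agent.Lib.PF.Ineq

/-!
# The end of the exclusion of `T` of type V

`R₀ = 1 + ∑_{ψ ∈ Ps} χ ψ` has norm `|W₂|`, and it is an odd integer at every element of order prime to `p = |W₂|`.
If `Q` is a trivial-intersection subgroup, prime to `p`, with `|N_G(Q)| = p |Q|`, and the values of `χ ψ` on `W₁#`
and `Q \ W₁` satisfy the congruences `(n, t)`, then `R₀` costs `p (1 - 1 / |Q|)` on the conjugates of `Q#`, which
leaves too little for the `p`-regular elements.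
-/

set_option autoImplicit false

namespace Cfsg.Agent.Lib.PF.TypeVEnd

open Cfsg
open Cfsg.Agent.Lib.Char.Ortho Cfsg.Agent.Lib.Char.Basic
open Cfsg.Agent.Lib.OddChar.FamilyUnique
open Cfsg.Agent.Lib.PF.Master Cfsg.Agent.Lib.PF.MeanE
open scoped ComplexConjugate

universe u

variable {G : Type u} [Group G] [Fintype G]

section Count

open Classical in
/-- The transporters of `g` into `D`. -/
noncomputable def fiber (D : Finset G) (g : G) : Finset G :=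
  Finset.univ.filter fun c => c⁻¹ * g * c ∈ D

theorem mem_fiber {D : Finset G} {g c : G} : c ∈ fiber D g ↔ c⁻¹ * g * c ∈ D := by
  simp [fiber]

theorem sum_conj_eq (D : Finset G) (F : G → ℝ) (hF : ∀ g c : G, F (c * g * c⁻¹) = F g) (c : G)
    [DecidablePred fun g : G => c⁻¹ * g * c ∈ D] :
    (∑ g : G, if c⁻¹ * g * c ∈ D then F g else 0) = ∑ x ∈ D, F x := by
  classical
  rw [← Finset.sum_filter]
  refine Finset.sum_bij' (fun g _ => c⁻¹ * g * c) (fun x _ => c * x * c⁻¹) ?_ ?_ ?_ ?_ ?_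
  · intro g hg
    exact (Finset.mem_filter.mp hg).2
  · intro x hx
    refine Finset.mem_filter.mpr ⟨Finset.mem_univ _, ?_⟩
    have e : c⁻¹ * (c * x * c⁻¹) * c = x := by group
    rwa [e]
  · intro g _
    group
  · intro x _
    group
  · intro g _
    have := hF (c⁻¹ * g * c) c
    have e : c * (c⁻¹ * g * c) * c⁻¹ = g := by group
    rw [e] at this
    exact this

theorem sum_mul_fiber (D : Finset G) (F : G → ℝ) (hF : ∀ g c : G, F (c * g * c⁻¹) = F g) :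
    (∑ g, F g * ((fiber D g).card : ℝ)) = (Nat.card G : ℝ) * ∑ x ∈ D, F x := by
  classical
  have h1 : ∀ g, F g * ((fiber D g).card : ℝ) = ∑ c : G, if c⁻¹ * g * c ∈ D then F g else 0 := by
    intro g
    unfold fiber
    rw [Finset.card_filter]
    push_cast
    rw [Finset.mul_sum]
    refine Finset.sum_congr rfl fun c _ => ?_
    split_ifs <;> simp
  simp only [h1]
  rw [Finset.sum_comm]
  simp only [sum_conj_eq D F hF]
  rw [Finset.sum_const, nsmul_eq_mul, Finset.card_univ, Nat.card_eq_fintype_card]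

theorem card_filter_mem (K : Subgroup G) [DecidablePred (· ∈ K)] :
    (Finset.univ.filter (· ∈ K)).card = Nat.card K := by
  rw [Nat.card_eq_fintype_card, Fintype.card_subtype]

/-- The fibres have at least `|N|` elements when `N` normalises `D`. -/
theorem card_le_fiber (N : Subgroup G) (D : Finset G) (hN : ∀ n ∈ N, ∀ x ∈ D, n⁻¹ * x * n ∈ D) {g c₀ : G}
    (hc₀ : c₀ ∈ fiber D g) : Nat.card N ≤ (fiber D g).card := by
  classical
  rw [← card_filter_mem N]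
  refine Finset.card_le_card_of_injOn (fun n => c₀ * n) ?_ ?_
  · intro n hn
    have hn' : n ∈ N := (Finset.mem_filter.mp (Finset.mem_coe.mp hn)).2
    rw [Finset.mem_coe, mem_fiber] at *
    have := hN n hn' _ hc₀
    have e : (c₀ * n)⁻¹ * g * (c₀ * n) = n⁻¹ * (c₀⁻¹ * g * c₀) * n := by group
    rwa [e]
  · intro a _ b _ hab
    exact mul_left_cancel hab

/-- The fibres have exactly `|N|` elements in the trivial-intersection situation. -/
theorem fiber_card_eq (N : Subgroup G) (D : Finset G) (hN : ∀ n ∈ N, ∀ x ∈ D, n⁻¹ * x * n ∈ D)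
    (hTI : ∀ c x : G, x ∈ D → c * x * c⁻¹ ∈ D → c ∈ N) {g c₀ : G}
    (hc₀ : c₀ ∈ fiber D g) : (fiber D g).card = Nat.card N := by
  classical
  refine le_antisymm ?_ (card_le_fiber N D hN hc₀)
  rw [← card_filter_mem N]
  refine Finset.card_le_card_of_injOn (fun c => c₀⁻¹ * c) ?_ ?_
  · intro c hc
    rw [Finset.mem_coe, mem_fiber] at hc
    have hc₁ := mem_fiber.mp hc₀
    rw [Finset.mem_coe]
    refine Finset.mem_filter.mpr ⟨Finset.mem_univ _, ?_⟩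
    have e : (c⁻¹ * c₀) * (c₀⁻¹ * g * c₀) * (c⁻¹ * c₀)⁻¹ = c⁻¹ * g * c := by group
    have h2 := hTI (c⁻¹ * c₀) _ hc₁ (by rw [e]; exact hc)
    have e2 : c₀⁻¹ * c = (c⁻¹ * c₀)⁻¹ := by group
    show c₀⁻¹ * c ∈ N
    rw [e2]
    exact N.inv_mem h2
  · intro a _ b _ hab
    exact mul_left_cancel hab

end Count

variable {W₁ W₂ : Subgroup G}

section Family

variable [Fintype (↥(W₁ ⊔ W₂) →* ℂˣ)]

theorem family_eq_of_coprime (hW : IsSelfNormalizingCyclic W₁ W₂) (hodd : Odd (Nat.card ↥(W₁ ⊔ W₂)))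
    {χ : (↥(W₁ ⊔ W₂) →* ℂˣ) → (G → ℂ)} (hχ : IsCyclicTIFamily W₁ W₂ χ) (hp : (Nat.card W₂).Prime)
    {g : G} (hg : (orderOf g).Coprime (Nat.card W₂)) {ψ ψ' : ↥(W₁ ⊔ W₂) →* ℂˣ}
    (hψ : ψ ∈ Ps W₁ W₂) (hψ' : ψ' ∈ Ps W₁ W₂) : χ ψ g = χ ψ' g := by
  classical
  rw [mem_Ps] at hψ hψ'
  set p := Nat.card W₂ with hpdef
  have : Fact p.Prime := ⟨hp⟩
  let K : Subgroup (↥(W₁ ⊔ W₂) →* ℂˣ) :=
    { carrier := {φ | ∀ w : ↥(W₁ ⊔ W₂), (w : G) ∈ W₁ → φ w = 1}
      one_mem' := fun w _ => rfl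
      mul_mem' := fun {a b} ha hb w hw => by
        rw [MonoidHom.mul_apply, ha w hw, hb w hw, one_mul]
      inv_mem' := fun {a} ha w hw => by
        rw [MonoidHom.inv_apply, ha w hw, inv_one] }
  have hcard : Nat.card K = p := card_triv_W₁ hW
  let a : K := ⟨ψ, hψ.2⟩
  let b : K := ⟨ψ', hψ'.2⟩
  have ha1 : a ≠ 1 := fun h => hψ.1 (congrArg Subtype.val h)
  have hb1 : b ≠ 1 := fun h => hψ'.1 (congrArg Subtype.val h)
  have hmem : b ∈ Submonoid.powers a := by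
    exact mem_powers_of_prime_card hcard ha1
  obtain ⟨t, ht⟩ := hmem
  have hpow : ∀ φ : K, φ ^ p = 1 := by
    intro φ
    rw [← hcard]
    exact pow_card_eq_one'
  have htcop : p.Coprime t := by
    rw [Nat.Prime.coprime_iff_not_dvd hp]
    rintro ⟨s, rfl⟩
    apply hb1
    change a ^ (p * s) = b at ht
    rw [← ht, pow_mul, hpow, one_pow]
  have hψp : ψ ^ p = 1 := congrArg Subtype.val (hpow a)
  have hψt : ψ ^ t = ψ' := congrArg Subtype.val ht
  have hg' : p.Coprime (orderOf g) := hg.symm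
  let x := Nat.chineseRemainder hg' t 1
  have hx1 : (x : ℕ) ≡ t [MOD p] := x.2.1
  have hx2 : (x : ℕ) ≡ 1 [MOD orderOf g] := x.2.2
  have hxc : (x : ℕ).Coprime (p * orderOf g) := by
    apply Nat.Coprime.mul_right
    · change Nat.gcd _ _ = 1
      rw [Nat.ModEq.gcd_eq hx1]
      exact htcop.symm
    · change Nat.gcd _ _ = 1
      rw [Nat.ModEq.gcd_eq hx2]
      simp
  have hpG : p ∣ Nat.card G := Subgroup.card_subgroup_dvd_card W₂
  have hd : p * orderOf g ∣ Nat.card G :=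
    Nat.Coprime.mul_dvd_of_dvd_of_dvd hg' hpG (orderOf_dvd_natCard g)
  obtain ⟨k, hk, hkx⟩ := exists_coprime_lift (Nat.card_pos.ne' : Nat.card G ≠ 0) hd hxc
  have hk1 : k ≡ t [MOD p] := (hkx.of_dvd (Dvd.intro _ rfl)).trans hx1
  have hk2 : k ≡ 1 [MOD orderOf g] := (hkx.of_dvd (Dvd.intro_left _ rfl)).trans hx2
  have e1 : ψ ^ k = ψ' := by
    rw [← hψt]
    exact (pow_eq_pow_iff_modEq (x := ψ)).mpr (hk1.of_dvd (orderOf_dvd_of_pow_eq_one hψp))
  have e2 : g ^ k = g := by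
    have := (pow_eq_pow_iff_modEq (x := g)).mpr hk2
    simpa using this
  have := family_pow hW hodd (IsCyclicTIFamily.toWeak hχ) hk ψ g
  rw [e1, e2] at this
  exact this.symm

theorem family_int_of_coprime (hW : IsSelfNormalizingCyclic W₁ W₂) (hodd : Odd (Nat.card ↥(W₁ ⊔ W₂)))
    {χ : (↥(W₁ ⊔ W₂) →* ℂˣ) → (G → ℂ)} (hχ : IsCyclicTIFamily W₁ W₂ χ) (hp : (Nat.card W₂).Prime)
    {g : G} (hg : (orderOf g).Coprime (Nat.card W₂)) {ψ : ↥(W₁ ⊔ W₂) →* ℂˣ}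
    (hψ : ψ ∈ Ps W₁ W₂) : ∃ n : ℤ, χ ψ g = n := by
  classical
  rw [mem_Ps] at hψ
  set p := Nat.card W₂ with hpdef
  let K : Subgroup (↥(W₁ ⊔ W₂) →* ℂˣ) :=
    { carrier := {φ | ∀ w : ↥(W₁ ⊔ W₂), (w : G) ∈ W₁ → φ w = 1}
      one_mem' := fun w _ => rfl
      mul_mem' := fun {a b} ha hb w hw => by
        rw [MonoidHom.mul_apply, ha w hw, hb w hw, one_mul]
      inv_mem' := fun {a} ha w hw => by
        rw [MonoidHom.inv_apply, ha w hw, inv_one] }
  have hcard : Nat.card K = p := card_triv_W₁ hW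
  let a : K := ⟨ψ, hψ.2⟩
  have hψp : ψ ^ p = 1 := by
    have h : a ^ p = 1 := by
      rw [← hcard]
      exact pow_card_eq_one'
    exact congrArg Subtype.val h
  have hd : orderOf ψ ∣ p := orderOf_dvd_of_pow_eq_one hψp
  exact family_int hW hodd (IsCyclicTIFamily.toWeak hχ) ψ g (Nat.Coprime.coprime_dvd_right hd hg)

/-- `R₀ = 1 + ∑_{ψ ∈ Ps} χ ψ`. -/
noncomputable def R0 (χ : (↥(W₁ ⊔ W₂) →* ℂˣ) → (G → ℂ)) (g : G) : ℂ :=
  1 + ∑ ψ ∈ Ps W₁ W₂, χ ψ g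

theorem R0_class {χ : (↥(W₁ ⊔ W₂) →* ℂˣ) → (G → ℂ)} (hχ : IsCyclicTIFamily W₁ W₂ χ) (g c : G) :
    R0 χ (c * g * c⁻¹) = R0 χ g := by
  unfold R0
  congr 1
  refine Finset.sum_congr rfl fun ψ _ => ?_
  rcases hχ.irr_or_neg ψ with h1 | h1
  · exact isClassFunction_of_isIrrCharacter h1 g c
  · have := isClassFunction_of_isIrrCharacter h1 g c
    simpa using this

open Classical in
/-- The norm of `R₀`. -/
theorem sum_R0 (hW : IsSelfNormalizingCyclic W₁ W₂) {χ : (↥(W₁ ⊔ W₂) →* ℂˣ) → (G → ℂ)}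
    (hχ : IsCyclicTIFamily W₁ W₂ χ) :
    (∑ g, R0 χ g * conj (R0 χ g)) = (Nat.card G : ℂ) * (Nat.card W₂ : ℂ) := by
  have hG : (Nat.card G : ℂ) ≠ 0 := by exact_mod_cast Nat.card_pos.ne'
  set T : Finset (↥(W₁ ⊔ W₂) →* ℂˣ) := insert 1 (Ps W₁ W₂) with hT
  have h1notin : (1 : ↥(W₁ ⊔ W₂) →* ℂˣ) ∉ Ps W₁ W₂ := by simp [mem_Ps]
  have hcardT : (T.card : ℂ) = (Nat.card W₂ : ℂ) := by
    rw [hT, Finset.card_insert_of_notMem h1notin, card_Ps hW]
  have hR : ∀ g, R0 χ g = ∑ ψ ∈ T, χ ψ g := by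
    intro g
    rw [hT, Finset.sum_insert h1notin, hχ.map_one]
    rfl
  have h0 : ∀ ω ω' : ↥(W₁ ⊔ W₂) →* ℂˣ,
      (∑ g, χ ω g * conj (χ ω' g)) = (Nat.card G : ℂ) * (if ω = ω' then 1 else 0) := by
    intro ω ω'
    have h := hχ.orthonormal ω ω'
    unfold classInner at h
    have h' : (∑ g, χ ω g * conj (χ ω' g)) =
        (Nat.card G : ℂ) * ((Nat.card G : ℂ)⁻¹ * ∑ g, χ ω g * conj (χ ω' g)) := by
      rw [mul_inv_cancel_left₀ hG]
    rw [h', h]
    congr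
  have h2 : ∀ g, R0 χ g * conj (R0 χ g) = ∑ ω ∈ T, ∑ ω' ∈ T, χ ω g * conj (χ ω' g) := by
    intro g
    rw [hR, map_sum, Finset.sum_mul_sum]
  simp only [h2]
  rw [Finset.sum_comm]
  have h3 : ∀ ω ∈ T, (∑ g, ∑ ω' ∈ T, χ ω g * conj (χ ω' g)) = (Nat.card G : ℂ) := by
    intro ω hω
    rw [Finset.sum_comm]
    simp only [h0]
    rw [← Finset.mul_sum, Finset.sum_ite_eq, if_pos hω, mul_one]
  rw [Finset.sum_congr rfl h3, Finset.sum_const, nsmul_eq_mul, hcardT, mul_comm]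

theorem sum_normSq_R0 (hW : IsSelfNormalizingCyclic W₁ W₂) {χ : (↥(W₁ ⊔ W₂) →* ℂˣ) → (G → ℂ)}
    (hχ : IsCyclicTIFamily W₁ W₂ χ) :
    (∑ g, Complex.normSq (R0 χ g)) = (Nat.card G : ℝ) * (Nat.card W₂ : ℝ) := by
  classical
  have h := sum_R0 hW hχ
  have h2 : ((∑ g, Complex.normSq (R0 χ g) : ℝ) : ℂ) = ((Nat.card G : ℝ) * (Nat.card W₂ : ℝ) : ℝ) := by
    push_cast
    rw [← h]
    refine Finset.sum_congr rfl fun g _ => ?_
    rw [Complex.mul_conj]
  exact_mod_cast h2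

/-- `R₀` at a `p`-regular element. -/
theorem R0_of_coprime (hW : IsSelfNormalizingCyclic W₁ W₂) (hodd : Odd (Nat.card ↥(W₁ ⊔ W₂)))
    {χ : (↥(W₁ ⊔ W₂) →* ℂˣ) → (G → ℂ)} (hχ : IsCyclicTIFamily W₁ W₂ χ) (hp : (Nat.card W₂).Prime)
    {g : G} (hg : (orderOf g).Coprime (Nat.card W₂)) {ψ₀ : ↥(W₁ ⊔ W₂) →* ℂˣ} (hψ₀ : ψ₀ ∈ Ps W₁ W₂) :
    R0 χ g = 1 + ((Nat.card W₂ : ℂ) - 1) * χ ψ₀ g := by
  unfold R0
  rw [Finset.sum_congr rfl fun ψ hψ => family_eq_of_coprime hW hodd hχ hp hg hψ hψ₀, Finset.sum_const,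
    nsmul_eq_mul]
  have := card_Ps hW
  have h2 : ((Ps W₁ W₂).card : ℂ) = (Nat.card W₂ : ℂ) - 1 := by
    rw [← this]
    push_cast
    ring
  rw [h2]

/-- `R₀` is a nonzero integer at a `p`-regular element, `p` odd. -/
theorem one_le_normSq_R0 (hW : IsSelfNormalizingCyclic W₁ W₂) (hodd : Odd (Nat.card ↥(W₁ ⊔ W₂)))
    {χ : (↥(W₁ ⊔ W₂) →* ℂˣ) → (G → ℂ)} (hχ : IsCyclicTIFamily W₁ W₂ χ) (hp : (Nat.card W₂).Prime)
    (hp3 : 3 ≤ Nat.card W₂) {g : G} (hg : (orderOf g).Coprime (Nat.card W₂))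
    {ψ₀ : ↥(W₁ ⊔ W₂) →* ℂˣ} (hψ₀ : ψ₀ ∈ Ps W₁ W₂) :
    1 ≤ Complex.normSq (R0 χ g) := by
  obtain ⟨y, hy⟩ := family_int_of_coprime hW hodd hχ hp hg hψ₀
  rw [R0_of_coprime hW hodd hχ hp hg hψ₀, hy]
  have hne : (1 + ((Nat.card W₂ : ℤ) - 1) * y) ≠ 0 := by
    intro h
    have h1 : ((Nat.card W₂ : ℤ) - 1) ∣ 1 := ⟨-y, by linarith⟩
    have h2 := Int.le_of_dvd one_pos h1
    have : (3 : ℤ) ≤ Nat.card W₂ := by exact_mod_cast hp3
    omega
  have h3 : (1 : ℂ) + ((Nat.card W₂ : ℂ) - 1) * (y : ℂ) = (((1 + ((Nat.card W₂ : ℤ) - 1) * y : ℤ) : ℝ) : ℂ) := by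
    push_cast
    ring
  rw [h3, Complex.normSq_ofReal]
  have h4 : (1 : ℤ) ≤ (1 + ((Nat.card W₂ : ℤ) - 1) * y) * (1 + ((Nat.card W₂ : ℤ) - 1) * y) := by
    have := mul_self_pos.mpr hne
    omega
  exact_mod_cast h4

end Family

/-- The integer inequality behind the mass of `R₀` on `Q#`. -/
theorem int_ineq (m q u τ α : ℤ) (hm : m = u + q) (hu : 0 < u) (hq : 3 ≤ q) (hτ : τ ≠ 0) :
    u * (m - 1) ≤ u * (q - 1) * α ^ 2 + (m * τ - q * α) ^ 2 := by
  obtain ⟨δ, rfl⟩ : ∃ δ, α = τ - δ := ⟨τ - α, by ring⟩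
  have hτ2 : 1 ≤ τ ^ 2 := by
    have := sq_pos_of_ne_zero hτ
    omega
  have h1 : 1 ≤ (τ + δ) ^ 2 + δ ^ 2 := by
    by_cases hd : δ = 0
    · rw [hd]; simpa using hτ2
    · have := sq_pos_of_ne_zero hd
      nlinarith [sq_nonneg (τ + δ)]
  have hm2 : 0 ≤ m - 2 := by omega
  have h2 : 0 ≤ (m - 2) * (τ ^ 2 - 1) := mul_nonneg hm2 (by omega)
  have h3 : 0 ≤ (q - 3) * δ ^ 2 := mul_nonneg (by omega) (sq_nonneg _)
  have h4 : 0 ≤ u * ((m - 2) * (τ ^ 2 - 1) + ((τ + δ) ^ 2 + δ ^ 2 - 1) + (q - 3) * δ ^ 2) :=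
    mul_nonneg hu.le (by linarith)
  subst hm
  nlinarith [h4, sq_nonneg (q * δ)]

/-- The final count. -/
theorem numeric_contra {n p q m X Y S o a b : ℝ} (hn : 0 < n) (hp : 3 ≤ p) (hq : 0 < q)
    (hm : q * (2 * p + 1) ≤ m) (hX : p * m * X = n * Y) (hY : p ^ 2 * (m - 1) ≤ Y)
    (ha : p * m * a = n * (m - 1)) (hb : 5 * q * b ≤ n) (ho : o * (p * q) = n * (p + q - 1))
    (h5 : X + S ≤ n * p) (hS : o - a - b ≤ S) : False := by
  have hp0 : 0 < p := by linarith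
  have hm0 : 0 < m := lt_of_lt_of_le (by positivity) hm
  have h1 : n * p * (m - 1) ≤ m * X := by
    have h2 : p * (n * p * (m - 1)) ≤ p * (m * X) := by
      have : n * (p ^ 2 * (m - 1)) ≤ n * Y := mul_le_mul_of_nonneg_left hY hn.le
      nlinarith [hX]
    exact le_of_mul_le_mul_left h2 hp0
  have h3 : X + o - a - b ≤ n * p := by linarith
  have h4 := mul_le_mul_of_nonneg_left h3 (by positivity : 0 ≤ 5 * p * q * m)
  have h6 : 5 * p * q * (m * X) + 5 * m * (o * (p * q)) - 5 * q * (p * m * a) - p * m * (5 * q * b) ≤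
      5 * p * q * m * (n * p) := by
    calc _ = 5 * p * q * m * (X + o - a - b) := by ring
      _ ≤ _ := h4
  have h7 : 5 * p * q * (n * p * (m - 1)) ≤ 5 * p * q * (m * X) :=
    mul_le_mul_of_nonneg_left h1 (by positivity)
  have h8 : p * m * (5 * q * b) ≤ p * m * n := mul_le_mul_of_nonneg_left hb (by positivity)
  rw [ho, ha] at h6
  have h9 : n * (5 * p ^ 2 * q * (m - 1) + 5 * m * (p + q - 1) - 5 * q * (m - 1) - p * m) ≤
      n * (5 * p ^ 2 * q * m) := by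
    nlinarith [h6, h7, h8]
  have h10 := le_of_mul_le_mul_left h9 hn
  have h11 : (4 * p - 5) * m ≤ 5 * q * (p ^ 2 - 1) := by nlinarith [h10]
  have h12 : (4 * p - 5) * (q * (2 * p + 1)) ≤ (4 * p - 5) * m :=
    mul_le_mul_of_nonneg_left hm (by linarith)
  have h13 : q * ((4 * p - 5) * (2 * p + 1)) ≤ q * (5 * (p ^ 2 - 1)) := by nlinarith [h11, h12]
  have h14 := le_of_mul_le_mul_left h13 hq
  nlinarith [h14]

section Main

variable [Fintype (↥(W₁ ⊔ W₂) →* ℂˣ)]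

/-- The mass of `R₀` on `Q#`. -/
theorem mass_Q (hW : IsSelfNormalizingCyclic W₁ W₂) (hodd : Odd (Nat.card ↥(W₁ ⊔ W₂)))
    {χ : (↥(W₁ ⊔ W₂) →* ℂˣ) → (G → ℂ)} (hχ : IsCyclicTIFamily W₁ W₂ χ) (hp : (Nat.card W₂).Prime)
    (hp3 : 3 ≤ Nat.card W₂) (hq3 : 3 ≤ Nat.card W₁) (Q : Subgroup G) (hWQ : W₁ ≤ Q)
    (hcop : (Nat.card Q).Coprime (Nat.card W₂)) (hmq : Nat.card W₁ < Nat.card Q)
    {ψ₀ : ↥(W₁ ⊔ W₂) →* ℂˣ} (hψ₀ : ψ₀ ∈ Ps W₁ W₂) (n t : ℤ)
    (hn : ∀ z ∈ W₁, z ≠ 1 → χ ψ₀ z = n) (hn1 : n ≡ 1 [ZMOD (Nat.card W₂ : ℤ)])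
    (ht1 : t ≡ 1 [ZMOD (Nat.card W₂ : ℤ)])
    [DecidablePred fun x : G => x ∈ Q ∧ x ∉ W₁] [DecidablePred fun x : G => x ∈ Q ∧ x ≠ 1]
    (hsum : (∑ x ∈ Finset.univ.filter (fun x : G => x ∈ Q ∧ x ∉ W₁), χ ψ₀ x) =
      (Nat.card Q : ℂ) * t - (Nat.card W₁ : ℂ) * n) :
    ((Nat.card W₂ : ℝ)) ^ 2 * ((Nat.card Q : ℝ) - 1) ≤
      ∑ x ∈ Finset.univ.filter (fun x : G => x ∈ Q ∧ x ≠ 1), Complex.normSq (R0 χ x) := by
  classical
  set p := Nat.card W₂ with hpdef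
  set q := Nat.card W₁ with hqdef
  set m := Nat.card Q with hmdef
  have hordQ : ∀ x ∈ Q, (orderOf x).Coprime p := fun x hx =>
    Nat.Coprime.coprime_dvd_left (Subgroup.orderOf_dvd_natCard Q hx) hcop
  set D₁ := Finset.univ.filter (fun x : G => x ∈ W₁ ∧ x ≠ 1) with hD₁
  set D₂ := Finset.univ.filter (fun x : G => x ∈ Q ∧ x ∉ W₁) with hD₂
  have hsplit : Finset.univ.filter (fun x : G => x ∈ Q ∧ x ≠ 1) = D₁ ∪ D₂ := by
    ext x
    simp only [hD₁, hD₂, Finset.mem_filter, Finset.mem_univ, true_and, Finset.mem_union]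
    constructor
    · rintro ⟨h1, h2⟩
      by_cases h3 : x ∈ W₁
      · exact Or.inl ⟨h3, h2⟩
      · exact Or.inr ⟨h1, h3⟩
    · rintro (⟨h1, h2⟩ | ⟨h1, h2⟩)
      · exact ⟨hWQ h1, h2⟩
      · refine ⟨h1, ?_⟩
        rintro rfl
        exact h2 W₁.one_mem
  have hdisj : Disjoint D₁ D₂ := by
    rw [Finset.disjoint_left]
    intro x hx1 hx2
    simp only [hD₁, hD₂, Finset.mem_filter, Finset.mem_univ, true_and] at hx1 hx2
    exact hx2.2 hx1.1
  have hcard1 : (D₁.card : ℤ) = (q : ℤ) - 1 := by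
    have h1 : Finset.univ.filter (· ∈ W₁) = insert 1 D₁ := by
      ext x
      simp only [hD₁, Finset.mem_filter, Finset.mem_univ, true_and, Finset.mem_insert]
      constructor
      · intro h
        by_cases hx : x = 1
        · exact Or.inl hx
        · exact Or.inr ⟨h, hx⟩
      · rintro (rfl | h)
        · exact W₁.one_mem
        · exact h.1
    have h2 := card_filter_mem W₁
    rw [h1, Finset.card_insert_of_notMem (by simp [hD₁])] at h2
    rw [hqdef, ← h2]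
    push_cast
    ring
  have hcard2 : (D₂.card : ℤ) = (m : ℤ) - q := by
    have h1 : Finset.univ.filter (· ∈ Q) = Finset.univ.filter (· ∈ W₁) ∪ D₂ := by
      ext x
      simp only [hD₂, Finset.mem_filter, Finset.mem_univ, true_and, Finset.mem_union]
      constructor
      · intro h
        by_cases h3 : x ∈ W₁
        · exact Or.inl h3
        · exact Or.inr ⟨h, h3⟩
      · rintro (h | h)
        · exact hWQ h
        · exact h.1
    have h2 := card_filter_mem Q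
    have hd : Disjoint (Finset.univ.filter (· ∈ W₁)) D₂ := by
      rw [Finset.disjoint_left]
      intro x hx1 hx2
      simp only [hD₂, Finset.mem_filter, Finset.mem_univ, true_and] at hx1 hx2
      exact hx2.2 hx1
    rw [h1, Finset.card_union_of_disjoint hd, card_filter_mem W₁] at h2
    rw [hmdef, ← h2, hqdef]
    push_cast
    ring
  -- integers
  obtain ⟨k, hk⟩ := (Int.modEq_iff_dvd.mp hn1.symm)
  obtain ⟨l, hl⟩ := (Int.modEq_iff_dvd.mp ht1.symm)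
  have hnk : n = 1 + p * k := by linarith
  have htl : t = 1 + p * l := by linarith
  set α : ℤ := 1 + ((p : ℤ) - 1) * k with hα
  set τ : ℤ := 1 + ((p : ℤ) - 1) * l with hτ
  have hτ0 : τ ≠ 0 := by
    intro h
    have h1 : ((p : ℤ) - 1) ∣ 1 := ⟨-l, by rw [hτ] at h; linarith⟩
    have h2 := Int.le_of_dvd one_pos h1
    have : (3 : ℤ) ≤ p := by exact_mod_cast hp3
    omega
  have hA : (1 : ℤ) + ((p : ℤ) - 1) * n = p * α := by
    rw [hnk, hα]; ring
  have hT : (1 : ℤ) + ((p : ℤ) - 1) * t = p * τ := by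
    rw [htl, hτ]; ring
  have hint := int_ineq (m : ℤ) (q : ℤ) ((m : ℤ) - q) τ α (by ring)
    (by have : (q : ℤ) < m := by exact_mod_cast hmq
        omega) (by exact_mod_cast hq3) hτ0
  -- values on `D₁`
  have hval1 : ∀ z ∈ D₁, Complex.normSq (R0 χ z) = ((p : ℝ) * (α : ℝ)) ^ 2 := by
    intro z hz
    simp only [hD₁, Finset.mem_filter, Finset.mem_univ, true_and] at hz
    have h1 := R0_of_coprime hW hodd hχ hp (hordQ z (hWQ hz.1)) hψ₀
    rw [hn z hz.1 hz.2] at h1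
    have h2 : R0 χ z = (((p : ℝ) * (α : ℝ) : ℝ) : ℂ) := by
      rw [h1]
      have h3 : ((((1 : ℤ) + ((p : ℤ) - 1) * n : ℤ) : ℂ)) = ((p * α : ℤ) : ℂ) := by rw [hA]
      push_cast at h3 ⊢
      exact h3
    rw [h2, Complex.normSq_ofReal]
    ring
  have hS1 : (∑ z ∈ D₁, Complex.normSq (R0 χ z)) = ((q : ℝ) - 1) * ((p : ℝ) * (α : ℝ)) ^ 2 := by
    rw [Finset.sum_congr rfl hval1, Finset.sum_const, nsmul_eq_mul]
    have : ((D₁.card : ℤ) : ℝ) = (((q : ℤ) - 1 : ℤ) : ℝ) := by rw [hcard1]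
    push_cast at this
    rw [this]
  -- values on `D₂`
  have hsumR : (∑ x ∈ D₂, R0 χ x) = (((p : ℝ) * ((m : ℝ) * (τ : ℝ) - (q : ℝ) * (α : ℝ)) : ℝ) : ℂ) := by
    have h1 : ∀ x ∈ D₂, R0 χ x = 1 + ((p : ℂ) - 1) * χ ψ₀ x := by
      intro x hx
      simp only [hD₂, Finset.mem_filter, Finset.mem_univ, true_and] at hx
      exact R0_of_coprime hW hodd hχ hp (hordQ x hx.1) hψ₀
    rw [Finset.sum_congr rfl h1, Finset.sum_add_distrib, ← Finset.mul_sum, hsum, Finset.sum_const,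
      nsmul_eq_mul, mul_one]
    have h2 : ((D₂.card : ℤ) : ℂ) = (((m : ℤ) - q : ℤ) : ℂ) := by rw [hcard2]
    push_cast at h2
    rw [h2]
    have h3 : ((((1 : ℤ) + ((p : ℤ) - 1) * n : ℤ) : ℂ)) = ((p * α : ℤ) : ℂ) := by rw [hA]
    have h4 : ((((1 : ℤ) + ((p : ℤ) - 1) * t : ℤ) : ℂ)) = ((p * τ : ℤ) : ℂ) := by rw [hT]
    push_cast at h3 h4 ⊢
    linear_combination (m : ℂ) * h4 - (q : ℂ) * h3
  have hsumre : (∑ x ∈ D₂, (R0 χ x).re) = (p : ℝ) * ((m : ℝ) * (τ : ℝ) - (q : ℝ) * (α : ℝ)) := by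
    have := congrArg Complex.re hsumR
    rw [Complex.re_sum, Complex.ofReal_re] at this
    exact this
  have hCS : ((p : ℝ) * ((m : ℝ) * (τ : ℝ) - (q : ℝ) * (α : ℝ))) ^ 2 ≤
      ((m : ℝ) - q) * ∑ x ∈ D₂, Complex.normSq (R0 χ x) := by
    rw [← hsumre]
    have h1 := sq_sum_le_card_mul_sum_sq (s := D₂) (f := fun x => (R0 χ x).re)
    have h2 : (∑ x ∈ D₂, ((R0 χ x).re) ^ 2) ≤ ∑ x ∈ D₂, Complex.normSq (R0 χ x) := by
      refine Finset.sum_le_sum fun x _ => ?_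
      rw [Complex.normSq_apply]
      nlinarith [mul_self_nonneg (R0 χ x).im]
    have h3 : ((D₂.card : ℤ) : ℝ) = (((m : ℤ) - q : ℤ) : ℝ) := by rw [hcard2]
    push_cast at h3
    rw [h3] at h1
    have hu : (0 : ℝ) < (m : ℝ) - q := by
      have : (q : ℝ) < m := by exact_mod_cast hmq
      linarith
    exact h1.trans (mul_le_mul_of_nonneg_left h2 hu.le)
  rw [hsplit, Finset.sum_union hdisj, hS1]
  have hu : (0 : ℝ) < (m : ℝ) - q := by
    have : (q : ℝ) < m := by exact_mod_cast hmq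
    linarith
  have hint' : ((m : ℝ) - q) * ((m : ℝ) - 1) ≤
      ((m : ℝ) - q) * ((q : ℝ) - 1) * (α : ℝ) ^ 2 + ((m : ℝ) * τ - q * α) ^ 2 := by
    exact_mod_cast hint
  have hp2 : (0 : ℝ) ≤ (p : ℝ) ^ 2 := sq_nonneg _
  have h5 := mul_le_mul_of_nonneg_left hint' hp2
  apply le_of_mul_le_mul_left _ hu
  nlinarith [h5, hCS]

/-- **The end of the exclusion of type V.**  `Q` is a trivial-intersection subgroup containing `W₁`, prime to `p`,
with `|N_G(Q)| = p |Q|`, with `|Q : W₁| ≥ 2 p + 1`.  Given the congruences `(n, t)` on `Q`, a subgroup `H` with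
`|N_G(H)| ≥ 5 q |H|` cannot contain all `p`-singular elements outside `Zt` up to conjugacy. -/
theorem typeV_end (hoddG : Odd (Nat.card G)) (hW : IsSelfNormalizingCyclic W₁ W₂)
    {χ : (↥(W₁ ⊔ W₂) →* ℂˣ) → (G → ℂ)} (hχ : IsCyclicTIFamily W₁ W₂ χ) (hp : (Nat.card W₂).Prime)
    (hp3 : 3 ≤ Nat.card W₂) (hq3 : 3 ≤ Nat.card W₁) (Q : Subgroup G) (hWQ : W₁ ≤ Q)
    (hcop : (Nat.card Q).Coprime (Nat.card W₂))
    (hTI : ∀ c x : G, x ∈ Q → x ≠ 1 → c * x * c⁻¹ ∈ Q → c ∈ Subgroup.normalizer (Q : Set G))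
    (hN : Nat.card (Subgroup.normalizer (Q : Set G)) = Nat.card W₂ * Nat.card Q)
    (hbig : Nat.card W₁ * (2 * Nat.card W₂ + 1) ≤ Nat.card Q)
    {ψ₀ : ↥(W₁ ⊔ W₂) →* ℂˣ} (hψ₀ : ψ₀ ∈ Ps W₁ W₂) (n t : ℤ)
    (hn : ∀ z ∈ W₁, z ≠ 1 → χ ψ₀ z = n) (hn1 : n ≡ 1 [ZMOD (Nat.card W₂ : ℤ)])
    (ht1 : t ≡ 1 [ZMOD (Nat.card W₂ : ℤ)])
    [DecidablePred fun x : G => x ∈ Q ∧ x ∉ W₁]
    (hsum : (∑ x ∈ Finset.univ.filter (fun x : G => x ∈ Q ∧ x ∉ W₁), χ ψ₀ x) =
      (Nat.card Q : ℂ) * t - (Nat.card W₁ : ℂ) * n)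
    (H : Subgroup G)
    (hNH : 5 * Nat.card W₁ * Nat.card H ≤ Nat.card (Subgroup.normalizer (H : Set G)))
    (hsing : ∀ g : G, g ∉ Zt W₁ W₂ → ¬ (orderOf g).Coprime (Nat.card W₂) → ∃ c : G, c⁻¹ * g * c ∈ H) :
    False := by
  classical
  have hodd : Odd (Nat.card ↥(W₁ ⊔ W₂)) := Odd.of_dvd_nat hoddG (Subgroup.card_subgroup_dvd_card _)
  set p := Nat.card W₂ with hpdef
  set q := Nat.card W₁ with hqdef
  set m := Nat.card Q with hmdef
  have hq0 : 0 < q := by omega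
  have hmq : q < m := by
    have : q * 3 ≤ q * (2 * p + 1) := Nat.mul_le_mul_left _ (by omega)
    omega
  set DQ := Finset.univ.filter (fun x : G => x ∈ Q ∧ x ≠ 1) with hDQ
  set DH := Finset.univ.filter (fun x : G => x ∈ H ∧ x ≠ 1) with hDH
  set NQ := Subgroup.normalizer (Q : Set G) with hNQ
  set NH := Subgroup.normalizer (H : Set G) with hNHdef
  let F : G → ℝ := fun g => Complex.normSq (R0 χ g)
  have hF : ∀ g c : G, F (c * g * c⁻¹) = F g := fun g c => by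
    show Complex.normSq _ = Complex.normSq _
    rw [R0_class hχ]
  have hF0 : ∀ g, 0 ≤ F g := fun g => Complex.normSq_nonneg _
  have hmass := mass_Q hW hodd hχ hp hp3 hq3 Q hWQ hcop hmq hψ₀ n t hn hn1 ht1 hsum
  have hnormQ : ∀ n ∈ NQ, ∀ x ∈ DQ, n⁻¹ * x * n ∈ DQ := by
    intro c hc x hx
    simp only [hDQ, Finset.mem_filter, Finset.mem_univ, true_and] at hx ⊢
    refine ⟨?_, ?_⟩
    · have h1 := (Subgroup.mem_normalizer_iff.mp (NQ.inv_mem hc) x).1 hx.1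
      simpa using h1
    · intro h
      apply hx.2
      have : x = c * (c⁻¹ * x * c) * c⁻¹ := by group
      rw [this, h]
      group
  have hTI' : ∀ c x : G, x ∈ DQ → c * x * c⁻¹ ∈ DQ → c ∈ NQ := by
    intro c x hx hc
    simp only [hDQ, Finset.mem_filter, Finset.mem_univ, true_and] at hx hc
    exact hTI c x hx.1 hx.2 hc.1
  have hnormH : ∀ n ∈ NH, ∀ x ∈ DH, n⁻¹ * x * n ∈ DH := by
    intro c hc x hx
    simp only [hDH, Finset.mem_filter, Finset.mem_univ, true_and] at hx ⊢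
    refine ⟨?_, ?_⟩
    · have h1 := (Subgroup.mem_normalizer_iff.mp (NH.inv_mem hc) x).1 hx.1
      simpa using h1
    · intro h
      apply hx.2
      have : x = c * (c⁻¹ * x * c) * c⁻¹ := by group
      rw [this, h]
      group
  set A := Finset.univ.filter (fun g : G => (fiber DQ g).Nonempty) with hA
  set B := Finset.univ.filter (fun g : G => (fiber DH g).Nonempty) with hB
  have hfibQ : ∀ g, ((fiber DQ g).card : ℝ) = if g ∈ A then (Nat.card NQ : ℝ) else 0 := by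
    intro g
    split_ifs with h
    · obtain ⟨c, hc⟩ := (Finset.mem_filter.mp h).2
      rw [fiber_card_eq NQ DQ hnormQ hTI' hc]
    · have : ¬ (fiber DQ g).Nonempty := fun h' => h (Finset.mem_filter.mpr ⟨Finset.mem_univ _, h'⟩)
      rw [Finset.not_nonempty_iff_eq_empty] at this
      rw [this]
      simp
  have hQ1 : (Nat.card NQ : ℝ) * (∑ g ∈ A, F g) = (Nat.card G : ℝ) * ∑ x ∈ DQ, F x := by
    rw [← sum_mul_fiber DQ F hF, Finset.mul_sum]
    simp only [hfibQ]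
    rw [hA, Finset.sum_filter]
    refine Finset.sum_congr rfl fun g _ => ?_
    simp only [hA, Finset.mem_filter, Finset.mem_univ, true_and]
    split_ifs <;> ring
  have hQ2 : (Nat.card NQ : ℝ) * (A.card : ℝ) = (Nat.card G : ℝ) * (DQ.card : ℝ) := by
    have h := sum_mul_fiber DQ (fun _ => (1 : ℝ)) (fun _ _ => rfl)
    simp only [one_mul, Finset.sum_const, nsmul_eq_mul, mul_one] at h
    rw [← h]
    simp only [hfibQ]
    rw [hA, Finset.sum_ite_mem, Finset.univ_inter, Finset.sum_const, nsmul_eq_mul]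
    ring
  have hDQcard : (DQ.card : ℝ) = (m : ℝ) - 1 := by
    have h1 : Finset.univ.filter (· ∈ Q) = insert 1 DQ := by
      ext x
      simp only [hDQ, Finset.mem_filter, Finset.mem_univ, true_and, Finset.mem_insert]
      constructor
      · intro h
        by_cases hx : x = 1
        · exact Or.inl hx
        · exact Or.inr ⟨h, hx⟩
      · rintro (rfl | h)
        · exact Q.one_mem
        · exact h.1
    have h2 := card_filter_mem Q
    rw [h1, Finset.card_insert_of_notMem (by simp [hDQ])] at h2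
    rw [hmdef, ← h2]
    push_cast
    ring
  have hDHcard : (DH.card : ℝ) ≤ (Nat.card H : ℝ) := by
    have h1 : DH ⊆ Finset.univ.filter (· ∈ H) := by
      intro x hx
      simp only [hDH, Finset.mem_filter, Finset.mem_univ, true_and] at hx ⊢
      exact hx.1
    have h2 := Finset.card_le_card h1
    rw [card_filter_mem H] at h2
    exact_mod_cast h2
  have hB1 : (Nat.card NH : ℝ) * (B.card : ℝ) ≤ (Nat.card G : ℝ) * (DH.card : ℝ) := by
    have h := sum_mul_fiber DH (fun _ => (1 : ℝ)) (fun _ _ => rfl)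
    simp only [one_mul, Finset.sum_const, nsmul_eq_mul, mul_one] at h
    rw [← h, ← nsmul_eq_mul', ← Finset.sum_const]
    calc (∑ _g ∈ B, (Nat.card NH : ℝ)) ≤ ∑ g ∈ B, ((fiber DH g).card : ℝ) := by
          refine Finset.sum_le_sum fun g hg => ?_
          obtain ⟨c, hc⟩ := (Finset.mem_filter.mp hg).2
          exact_mod_cast card_le_fiber NH DH hnormH hc
      _ ≤ ∑ g, ((fiber DH g).card : ℝ) :=
          Finset.sum_le_sum_of_subset_of_nonneg (Finset.subset_univ _) (fun _ _ _ => by positivity)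
  have hG0 : (0 : ℝ) < (Nat.card G : ℝ) := by exact_mod_cast Nat.card_pos
  have hb : 5 * (q : ℝ) * (B.card : ℝ) ≤ (Nat.card G : ℝ) := by
    have hNH0 : (0 : ℝ) < (Nat.card NH : ℝ) := by exact_mod_cast Nat.card_pos
    have hNH' : 5 * (q : ℝ) * (Nat.card H : ℝ) ≤ (Nat.card NH : ℝ) := by exact_mod_cast hNH
    have hH0 : (0 : ℝ) < (Nat.card H : ℝ) := by exact_mod_cast Nat.card_pos
    -- `|N_H| |B| ≤ |G| |H|`, `5 q |H| ≤ |N_H|`
    have h1 : (Nat.card NH : ℝ) * (B.card : ℝ) ≤ (Nat.card G : ℝ) * (Nat.card H : ℝ) :=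
      hB1.trans (mul_le_mul_of_nonneg_left hDHcard hG0.le)
    have h2 : 5 * (q : ℝ) * (Nat.card H : ℝ) * (B.card : ℝ) ≤ (Nat.card NH : ℝ) * (B.card : ℝ) :=
      mul_le_mul_of_nonneg_right hNH' (by positivity)
    have h3 : (Nat.card H : ℝ) * (5 * (q : ℝ) * (B.card : ℝ)) ≤ (Nat.card H : ℝ) * (Nat.card G : ℝ) := by
      nlinarith [h1, h2]
    exact le_of_mul_le_mul_left h3 hH0
  -- off
  set off := Finset.univ.filter (fun g => g ∉ Zt W₁ W₂) with hoff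
  have hoffc : (off.card : ℝ) * ((p : ℝ) * (q : ℝ)) = (Nat.card G : ℝ) * ((p : ℝ) + q - 1) := by
    have h := card_off hW hχ
    have hp0 : (p : ℂ) ≠ 0 := by exact_mod_cast hp.pos.ne'
    have hq0' : (q : ℂ) ≠ 0 := by exact_mod_cast hq0.ne'
    have h2 : ((off.card : ℂ)) * ((p : ℂ) * (q : ℂ)) = (Nat.card G : ℂ) * ((p : ℂ) + q - 1) := by
      have h3 : (off.card : ℂ) = (Nat.card G : ℂ) * ((p : ℂ)⁻¹ + (q : ℂ)⁻¹ - (p : ℂ)⁻¹ * (q : ℂ)⁻¹) := by
        rw [← h]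
      rw [h3]
      field_simp
      ring
    exact_mod_cast h2
  -- the remaining set
  set C := off \ (A ∪ B) with hC
  have hCge : ∀ g ∈ C, 1 ≤ F g := by
    intro g hg
    rw [hC, Finset.mem_sdiff, Finset.mem_union, not_or] at hg
    have hg1 : g ∉ Zt W₁ W₂ := (Finset.mem_filter.mp hg.1).2
    have hcop' : (orderOf g).Coprime p := by
      by_contra hnc
      obtain ⟨c, hc⟩ := hsing g hg1 hnc
      apply hg.2.2
      refine Finset.mem_filter.mpr ⟨Finset.mem_univ _, c, mem_fiber.mpr ?_⟩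
      simp only [hDH, Finset.mem_filter, Finset.mem_univ, true_and]
      refine ⟨hc, ?_⟩
      intro h1
      have : g = 1 := by
        have e : g = c * (c⁻¹ * g * c) * c⁻¹ := by group
        rw [e, h1]
        group
      rw [this] at hnc
      simp at hnc
    exact one_le_normSq_R0 hW hodd hχ hp hp3 hcop' hψ₀
  have hcardC : (off.card : ℝ) - A.card - B.card ≤ (C.card : ℝ) := by
    have h1 : off ⊆ C ∪ (A ∪ B) := by
      intro g hg
      by_cases h : g ∈ A ∪ B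
      · exact Finset.mem_union_right _ h
      · exact Finset.mem_union_left _ (Finset.mem_sdiff.mpr ⟨hg, h⟩)
    have h2 := Finset.card_le_card h1
    have h3 := Finset.card_union_le C (A ∪ B)
    have h4 := Finset.card_union_le A B
    have h5 : off.card ≤ C.card + A.card + B.card := by omega
    have h6 : (off.card : ℝ) ≤ C.card + A.card + B.card := by exact_mod_cast h5
    linarith
  have hSC : (C.card : ℝ) ≤ ∑ g ∈ C, F g := by
    calc (C.card : ℝ) = ∑ _g ∈ C, (1 : ℝ) := by simp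
      _ ≤ _ := Finset.sum_le_sum hCge
  have htotal : (∑ g ∈ A, F g) + ∑ g ∈ C, F g ≤ (Nat.card G : ℝ) * (p : ℝ) := by
    rw [← sum_normSq_R0 hW hχ]
    have hd : Disjoint A C := by
      rw [Finset.disjoint_left]
      intro g hgA hgC
      rw [hC, Finset.mem_sdiff, Finset.mem_union, not_or] at hgC
      exact hgC.2.1 hgA
    rw [← Finset.sum_union hd]
    exact Finset.sum_le_sum_of_subset_of_nonneg (Finset.subset_univ _) (fun g _ _ => hF0 g)
  have hNQc : (Nat.card NQ : ℝ) = (p : ℝ) * (m : ℝ) := by exact_mod_cast hN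
  rw [hNQc] at hQ1 hQ2
  rw [hDQcard] at hQ2
  refine numeric_contra (n := (Nat.card G : ℝ)) (p := (p : ℝ)) (q := (q : ℝ)) (m := (m : ℝ))
    (X := ∑ g ∈ A, F g) (Y := ∑ x ∈ DQ, F x) (S := ∑ g ∈ C, F g) (o := (off.card : ℝ)) (a := (A.card : ℝ))
    (b := (B.card : ℝ)) hG0 (by exact_mod_cast hp3) (by exact_mod_cast hq0) (by exact_mod_cast hbig) hQ1 hmass hQ2 hb
    hoffc htotal (by linarith)

end Main

end Cfsg.Agent.Lib.PF.TypeVEnd
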